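import Groth.Agent.RedSub.K195.LeLoc
import Groth.Agent.RedSub.H661.Main
import Groth.Agent.RedSub.H650.ParClosed
import Groth.Agent.RedSub.H672.ParProper
import Groth.Agent.Sga3B.AlgBc2
import Groth.Agent.Sga3B.Parab.GeomBC147

/-!
# The locus where a parabolic subgroup is a Borel subgroup
-/

set_option autoImplicit false
universe u

open CategoryTheory MonoidalCategory CartesianMonoidalCategory MonObj GrpObj AlgebraicGeometry Limits

namespace Groth.Agent.RedSub.K200.BorLocus

open Groth.Agent Groth.Agent.RedSub Groth.Agent.Sga3B Groth.Agent.Sga3B.Parab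
open Groth.Agent.Sga3B.Parab.RedCover147

variable {S : Scheme.{u}} {G P : Over S} [GrpObj G] [GrpObj P]

/-- the locus where the geometric fibre of `P` is a Borel subgroup -/
def borLocus (p : P ⟶ G) : Set S :=
  {s : S | Red.IsBorelOver (AlgebraicClosure (S.residueField s)) ((Over.pullback (Red.geomPt s)).map p)}

theorem borLocus_bc {S' : Scheme.{u}} (f : S' ⟶ S) [ResAlg.AlgRes f] (p : P ⟶ G) :
    borLocus ((Over.pullback f).map p) = f.base ⁻¹' borLocus p := by
  ext s'
  exact AlgBc.isBorelOver_geomFibre_bc_iff f s'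

theorem borLocus_eq {B : Over S} [GrpObj B] (hG : Red.IsReductive G) (p : P ⟶ G)
    (hP : Red.IsParabolic p) (c : B ⟶ P) (hb : Red.IsBorel (c ≫ p)) :
    borLocus p = K195.Le.locus p (c ≫ p) := by
  have hpm : IsMonHom p := hP.1
  have hbm : IsMonHom (c ≫ p) := hb.1
  have hpc : IsClosedImmersion p.left := hP.2.1
  have hpM : Mono p := Over.mono_of_mono_left p
  have hbc : IsClosedImmersion (c ≫ p).left := hb.2.1
  have hbM : Mono (c ≫ p) := Over.mono_of_mono_left (c ≫ p)
  have hcm : IsMonHom c := OppS172.isMonHom_of_comp c p hbm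
  ext s
  let z := Red.geomPt s
  have hB : Red.IsBorelOver (AlgebraicClosure (S.residueField s))
      ((Over.pullback z).map (c ≫ p)) := hb.2.2.2 s
  have hM : Mono ((Over.pullback z).map p) := inferInstance
  have hM' : Mono ((Over.pullback z).map (c ≫ p)) := inferInstance
  have hc : (Over.pullback z).map c ≫ (Over.pullback z).map p = (Over.pullback z).map (c ≫ p) :=
    (Functor.map_comp _ _ _).symm
  change Red.IsBorelOver (AlgebraicClosure (S.residueField s)) ((Over.pullback z).map p) ↔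
    K195.Le.LeAt p (c ≫ p) z
  rw [K195.Le.leAt_iff_bc]
  constructor
  · intro hp
    obtain ⟨k1, k2, k3, k4, k5, k6⟩ := hp
    have := k1
    have hi : IsIso ((Over.pullback z).map c) :=
      hB.2.2.2.2.2 _ ((Over.pullback z).map p) _ k2 k3 k4 k5 hc
    refine ⟨inv ((Over.pullback z).map c), ?_⟩
    rw [IsIso.inv_comp_eq]
    exact hc.symm
  · rintro ⟨v, hv⟩
    have h1 : (Over.pullback z).map c ≫ v = 𝟙 _ := by
      rw [← cancel_mono ((Over.pullback z).map (c ≫ p))]
      refine (Category.assoc _ _ _).trans ?_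
      rw [hv, hc]
      exact (Category.id_comp _).symm
    have h2 : v ≫ (Over.pullback z).map c = 𝟙 _ := by
      rw [← cancel_mono ((Over.pullback z).map p)]
      refine (Category.assoc _ _ _).trans ?_
      rw [hc, hv]
      exact (Category.id_comp _).symm
    have hi : IsIso ((Over.pullback z).map c) := ⟨v, h1, h2⟩
    have hm : IsMonHom (asIso ((Over.pullback z).map c)).hom := by
      change IsMonHom ((Over.pullback z).map c)
      infer_instance
    refine Groth.Agent.Sga3B.Parab.GeomBC147.isBorelOver_of_iso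
      (Grp.mkIso' (asIso ((Over.pullback z).map c))) (Iso.refl _) ?_ hB
    change (Over.pullback z).map c ≫ (Over.pullback z).map p = (Over.pullback z).map (c ≫ p) ≫ 𝟙 _
    rw [hc, Category.comp_id]

/-- **The Borel locus is open and closed.** -/
theorem isClopen_borLocus (hG : Red.IsReductive G) (p : P ⟶ G) (hP : Red.IsParabolic p) :
    IsClopen (borLocus p) := by
  refine K195.LeLoc.isClopen_of_etale_local _ fun s => ?_
  obtain ⟨S₁, f₁, hf₁, ⟨s₁, rfl⟩, B, _, c, hc⟩ := H661.Main.exists_borel_in hG hP s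
  have hG₁ : Red.IsReductive (Red.bc f₁ G) := RedBcAny636.isReductive_bc f₁ hG
  have hP₁ := H648.BorBc.isParabolic_bc f₁ hG hP
  obtain ⟨R, _, f₂, hf₂, ⟨s₂, rfl⟩, T, _, t, r, e, x, htm, ht, hT, hd⟩ :=
    Parab.Uncond688.pcP S₁ (Red.bc f₁ G) B _ hG₁ (H661.Borels.isParabolic_of_isBorel hc) s₁
  have hG₂ : Red.IsReductive (Red.bc f₂ (Red.bc f₁ G)) := RedBcAny636.isReductive_bc f₂ hG₁
  have hP₂ := H648.BorBc.isParabolic_bc f₂ hG₁ hP₁
  have hb₂ := H648.BorBc.isBorel_bc f₂ hG₁ hc
  refine ⟨_, f₂ ≫ f₁, inferInstance, ⟨s₂, Scheme.Hom.comp_apply _ _ _⟩, ?_⟩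
  have h1 : (f₂ ≫ f₁).base ⁻¹' borLocus p =
      borLocus ((Over.pullback f₂).map ((Over.pullback f₁).map p)) := by
    rw [borLocus_bc, borLocus_bc]
    rfl
  have hb₂' : Red.IsBorel ((Over.pullback f₂).map c ≫
      (Over.pullback f₂).map ((Over.pullback f₁).map p)) := by
    rw [← Functor.map_comp]
    exact hb₂
  rw [h1, borLocus_eq hG₂ _ hP₂ ((Over.pullback f₂).map c) hb₂']
  have i1 : IsMonHom ((Over.pullback f₂).map ((Over.pullback f₁).map p)) := hP₂.1
  have i2 : IsMonHom ((Over.pullback f₂).map c ≫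
      (Over.pullback f₂).map ((Over.pullback f₁).map p)) := hb₂'.1
  have i3 : IsClosedImmersion ((Over.pullback f₂).map ((Over.pullback f₁).map p)).left := hP₂.2.1
  have i4 : IsClosedImmersion ((Over.pullback f₂).map c ≫
      (Over.pullback f₂).map ((Over.pullback f₁).map p)).left := hb₂'.2.1
  have i5 : Smooth (Red.bc f₂ (Red.bc f₁ P)).hom := hP₂.2.2.1
  have i6 : Smooth (Red.bc f₂ B).hom := hb₂'.2.2.1
  refine K195.LeLoc.isClopen_locus hG₂ (t ≫ (Over.pullback f₂).map (c ≫ (Over.pullback f₁).map p))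
    hT _ _ (H650.ParClosed.hasConnectedFibres hG₂ _ (H672.ParProper.isParabolicSub hP₂))
    (t ≫ (Over.pullback f₂).map c) t ?_ ?_
  · rw [Category.assoc, ← Functor.map_comp]
  · rw [← Functor.map_comp]

end Groth.Agent.RedSub.K200.BorLocus
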