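import Groth.Agent.RedSub.K200.TransTors
import Groth.Agent.RedSub.K194.Semi
import Groth.Agent.RedSub.H634.BorelStd
import Groth.Agent.RedSub.H641.TypeRBc
import Groth.Agent.Etbase.SpreadOut
import Groth.Agent.RedSub.H667.SplitConst

/-!
# Zariski-local conjugacy of Borel subgroups of a split group
-/

set_option autoImplicit false
universe u

open CategoryTheory CategoryTheory.Limits MonoidalCategory CartesianMonoidalCategory MonObj GrpObj AlgebraicGeometry
  Opposite
open Groth.Agent.Books.BorelOrb Groth.Agent.RedSub.K200.TorsPar Groth.Agent.RedSub.K200.TorsLevi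
open Groth.Agent.Sga3B Groth.Agent.Sga3B.Parab Groth.Agent.Sga3B.Parab.ConjPt Groth.Agent.Sga3B.DSPts
open Groth.Agent.RedSub.K200.TorsSplit Groth.Agent.RedSub.K200.TransTors

namespace Groth.Agent.RedSub.K200.ConjLoc

variable {S : Scheme.{u}}

/-- spreading out a point over the local ring -/
lemma exists_spread {C : Over S} [LocallyOfFinitePresentation C.hom] (s : S)
    (σ : Spec (S.presheaf.stalk s) ⟶ C.left) (h : σ ≫ C.hom = S.fromSpecStalk s) :
    ∃ V : S.Opens, s ∈ V ∧ Nonempty (Over.mk V.ι ⟶ C) := by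
  obtain ⟨U, hs, τ, -, hτ⟩ := Etbase.SpreadOut.spread_out_section σ h
  exact ⟨U, hs, ⟨Over.homMk τ hτ⟩⟩

lemma subsingleton_pic (R : Type u) [CommRing R] [IsLocalRing R] : Subsingleton (CommRing.Pic R) := by
  apply H667.SplitConst.subsingleton_pic
  have h : {m : Ideal R | m.IsMaximal} ⊆ {IsLocalRing.maximalIdeal R} := fun m hm =>
    IsLocalRing.eq_maximalIdeal hm
  exact (Set.finite_singleton _).subset h

lemma isSplit_bc {S' : Scheme.{u}} (f : S' ⟶ S) {T : Over S} [GrpObj T] {M : Type} [AddCommGroup M]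
    (h : Red.IsSplitTorusWith M T) : Red.IsSplitTorusWith M (Red.bc f T) := by
  obtain ⟨e⟩ := h
  exact ⟨(Over.pullback f).mapGrp.mapIso e ≪≫ TorusAlgClosed.dsBcIso f M⟩

variable {G B : Over S} [GrpObj G] [GrpObj B]

/-- **Zariski-locally a Borel subgroup contains a conjugate of the torus of a splitting.** -/
theorem exists_conj_torus (D : Red.SplitRed G) (b : B ⟶ G) (hB : Red.IsBorel b) (s : S) :
    ∃ (V : S.Opens), s ∈ V ∧ ∃ g : 𝟙_ (Over (V : Scheme.{u})) ⟶ Red.bc V.ι G,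
      ∀ (X : Over (V : Scheme.{u})) (t : X ⟶ Red.bc V.ι D.T), ∃ y : X ⟶ Red.bc V.ι B,
        (toUnit X ≫ g)⁻¹ * (t ≫ (Over.pullback V.ι).map D.i) * (toUnit X ≫ g) =
          y ≫ (Over.pullback V.ι).map b := by
  have hG := D.reductive
  have hGa : IsAffineHom G.hom := hG.1
  have hGs : Smooth G.hom := hG.2.1
  have hne : Nonempty S := ⟨s⟩
  have hred := SplitReduced415.isReduced D
  obtain ⟨x, hx⟩ := BaseZ.exists_functional D.P
  let x' : Module.Dual ℤ D.M := x.toIntLinearMap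
  obtain ⟨B₀, _, b₀, hP, -⟩ := DynExist998.exists_isDynP (Par.coch D x')
  have hB₀ : Red.IsBorel b₀ := H634.BorelStd.isBorel_of_isDynP D x' hx hP
  obtain ⟨U, _, tp, u, htp, -, -⟩ := K194.Semi.exists_semi_torus D x' hx b₀ hP
  obtain ⟨C, c, hc, hm, hsm, -⟩ := exists_transporter hG b b₀ hB hB₀
  let R := S.presheaf.stalk s
  let f : Spec (CommRingCat.of R) ⟶ S := S.fromSpecStalk s
  have hGf := RedBcAny636.isReductive_bc f hG
  have hBf := H648.BorBc.isBorel_bc f hG hB
  have hB₀f := H648.BorBc.isBorel_bc f hG hB₀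
  have hTf : Red.IsMaximalTorus ((Over.pullback f).map tp ≫ (Over.pullback f).map b₀) := by
    rw [← Functor.map_comp, htp]
    exact MaxTorBc505.isMaximalTorus_bc f hG D.maximalTorus
  have hpic : Subsingleton (CommRing.Pic R) := subsingleton_pic R
  have hTriv : Triv (Red.bc f B₀) :=
    triv_borel hGf _ hB₀f _ hTf D.M (isSplit_bc f ⟨D.split⟩)
  obtain ⟨g, hg⟩ := exists_conj hGf _ _ hBf hB₀f hTriv
  rw [LC.conj_bc_iff] at hg
  obtain ⟨z, -⟩ := (hc _ _).2 hg
  have hz : z.left ≫ C.hom = S.fromSpecStalk s := (Over.w z).trans (Category.id_comp _)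
  obtain ⟨V, hsV, ⟨z'⟩⟩ := exists_spread s z.left hz
  obtain ⟨g', hg'⟩ := H645.ConjEqIff.exists_conjEq_bc V.ι ((hc _ _).1 ⟨z', rfl⟩)
  refine ⟨V, hsV, g', fun X t => ?_⟩
  obtain ⟨y, hy⟩ := (hg' X (toUnit X)).2 (t ≫ (Over.pullback V.ι).map tp)
  refine ⟨y, ?_⟩
  rw [← hy, Category.assoc, ← Functor.map_comp, htp]

/-- a maximal torus is a subgroup of type (R) -/
lemma isTypeR_torus {T : Over S} [GrpObj T] (hG : Red.IsReductive G) (i : T ⟶ G) (hT : Red.IsMaximalTorus i) :
    RedSub.IsTypeR i := by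
  have hcl : IsClosedImmersion i.left := TorClosed636.isClosedImmersion_of_isMaximalTorus hG hT
  have hs : Smooth T.hom := TorusAlgClosed.smooth_of_isTorus hT.2.2.1
  have hGa : IsAffineHom G.hom := hG.1
  have hTa : IsAffineHom T.hom := by
    rw [← Over.w i]
    infer_instance
  refine H641.TypeRBc.isTypeR_of_torus hG ⟨hT.1, inferInstance⟩ hs inferInstance
    (H636.ConnFib.hasConnectedFibres_torus hT.2.2.1) (𝟙 T) ?_
  rwa [Category.id_comp]

/-- **Two Borel subgroups containing the torus of a splitting are Zariski-locally conjugate by a point normalising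
the torus.** -/
theorem exists_conj_norm {B' : Over S} [GrpObj B'] (D : Red.SplitRed G) (b : B ⟶ G) (b' : B' ⟶ G)
    (t : D.T ⟶ B) (t' : D.T ⟶ B') (hB : Red.IsBorel b) (hB' : Red.IsBorel b')
    (ht : t ≫ b = D.i) (ht' : t' ≫ b' = D.i) (s : S) :
    ∃ (V : S.Opens), s ∈ V ∧ ∃ n : 𝟙_ (Over (V : Scheme.{u})) ⟶ Red.bc V.ι G,
        RedSub.ConjEq ((Over.pullback V.ι).map D.i) ((Over.pullback V.ι).map D.i) n ∧
        RedSub.ConjEq ((Over.pullback V.ι).map b) ((Over.pullback V.ι).map b') n := by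
  have hG := D.reductive
  have hGa : IsAffineHom G.hom := hG.1
  have hGs : Smooth G.hom := hG.2.1
  obtain ⟨C, c, hc, hm, hsm, -⟩ := exists_transporter hG b b' hB hB'
  have hR := isTypeR_torus hG D.i D.maximalTorus
  obtain ⟨C₂, c₂, ⟨hm₂, hc₂⟩, hcl₂, hsm₂⟩ := S3959.result hG D.i D.i hR hR
  let E : Over S := pullback c c₂
  have hE : LocallyOfFinitePresentation E.hom := by
    have h1 : LocallyOfFinitePresentation c.left := by
      have h2 : LocallyOfFinitePresentation (c.left ≫ G.hom) := by rw [Over.w]; infer_instance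
      exact MorphismProperty.of_postcomp (W := @LocallyOfFinitePresentation) (W' := @LocallyOfFiniteType)
        c.left G.hom inferInstance h2
    have h3 : LocallyOfFinitePresentation (pullback.snd c c₂).left :=
      MorphismProperty.of_isPullback (P := @LocallyOfFinitePresentation)
        ((IsPullback.of_hasPullback c c₂).map (Over.forget S)) h1
    have h4 : (pullback.snd c c₂).left ≫ C₂.hom = E.hom := Over.w _
    rw [← h4]
    infer_instance
  let R := S.presheaf.stalk s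
  let f : Spec (CommRingCat.of R) ⟶ S := S.fromSpecStalk s
  have hGf := RedBcAny636.isReductive_bc f hG
  have hBf := H648.BorBc.isBorel_bc f hG hB
  have hBf' := H648.BorBc.isBorel_bc f hG hB'
  have hTf : Red.IsMaximalTorus ((Over.pullback f).map t ≫ (Over.pullback f).map b) := by
    rw [← Functor.map_comp, ht]
    exact MaxTorBc505.isMaximalTorus_bc f hG D.maximalTorus
  have hTf' : Red.IsMaximalTorus ((Over.pullback f).map t' ≫ (Over.pullback f).map b') := by
    rw [← Functor.map_comp, ht']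
    exact MaxTorBc505.isMaximalTorus_bc f hG D.maximalTorus
  have hpic : Subsingleton (CommRing.Pic R) := subsingleton_pic R
  have hTriv : Triv (Red.bc f B') :=
    triv_borel hGf _ hBf' _ hTf' D.M (isSplit_bc f ⟨D.split⟩)
  obtain ⟨g, hg, hg'⟩ := exists_conj_pair hGf _ _ hBf hBf' _ _ hTf hTf' hTriv
  rw [← Functor.map_comp, ← Functor.map_comp, ht, ht', LC.conj_bc_iff] at hg
  rw [LC.conj_bc_iff] at hg'
  obtain ⟨z, hz⟩ := (hc _ _).2 hg'
  obtain ⟨z₂, hz₂⟩ := (hc₂ _ _).2 ((H645.ConjEqIff.conjEq_iff _).2 hg)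
  let w := pullback.lift (f := c) (g := c₂) z z₂ (by rw [hz, hz₂])
  have hw : w.left ≫ E.hom = S.fromSpecStalk s := (Over.w w).trans (Category.id_comp _)
  obtain ⟨V, hsV, ⟨w'⟩⟩ := exists_spread s w.left hw
  have h5 : (w' ≫ pullback.fst c c₂) ≫ c = (w' ≫ pullback.snd c c₂) ≫ c₂ := by
    rw [Category.assoc, pullback.condition, Category.assoc]
  have h6 : Conj b b' ((w' ≫ pullback.fst c c₂) ≫ c) := (hc _ _).1 ⟨_, rfl⟩
  have h7 : Conj D.i D.i ((w' ≫ pullback.fst c c₂) ≫ c) := by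
    rw [h5]
    exact (H645.ConjEqIff.conjEq_iff _).1 ((hc₂ _ _).1 ⟨_, rfl⟩)
  refine ⟨V, hsV, ?_⟩
  let c₀ : (Over.map V.ι).obj (𝟙_ (Over (V : Scheme.{u}))) ⟶ Over.mk V.ι := Over.homMk (𝟙 _) (by
    change 𝟙 _ ≫ V.ι = 𝟙 _ ≫ V.ι
    rfl)
  refine ⟨DSPts.bcEquiv V.ι _ G (c₀ ≫ (w' ≫ pullback.fst c c₂) ≫ c), ?_, ?_⟩
  · rw [H645.ConjEqIff.conjEq_bc_iff, MulEquiv.symm_apply_apply, H645.ConjEqIff.conjEq_iff]
    exact h7.comp c₀
  · rw [H645.ConjEqIff.conjEq_bc_iff, MulEquiv.symm_apply_apply, H645.ConjEqIff.conjEq_iff]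
    exact h6.comp c₀

end Groth.Agent.RedSub.K200.ConjLoc
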