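import Groth.Agent.RedSub.K200.LGDec
import Groth.Agent.RedSub.H663.KeyGlue

/-!
# Conjugacy of parabolic subgroups by `u u'` over an LG-ring

* `exists_open`: for `P`, `Q` fppf-locally conjugate over an affine base, the points `x` of `U` such
  that `x⁻¹ Q x` is in the cell of `P` form a quasi-compact open subset of `U`.
* `main`: over an LG-ring, `Q = int(a b) P` with `a ∈ U(S)`, `b ∈ V(S)`.
-/

set_option autoImplicit false

universe u

open CategoryTheory MonoidalCategory CartesianMonoidalCategory MonObj GrpObj AlgebraicGeometry Limits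

namespace Groth.Agent.RedSub.K200.LGConj

open Groth.Agent.Sga3B Groth.Agent.Sga3B.Parab Groth.Agent.Sga3B.Parab.ConjGlue
open Groth.Agent.Sga3B.Parab.ConjPt Groth.Agent.RedSub.H663.LiftPts

section Open

variable {A : Type u} [CommRing A]
variable {G P Q U V : Over (Spec (CommRingCat.of A))} [GrpObj G] [GrpObj P]

omit [GrpObj P] in
lemma hloc_affine {p : P ⟶ G} {q : Q ⟶ G}
    (hloc : ∀ s : Spec (CommRingCat.of A), ∃ (S' : Scheme.{u}) (f : S' ⟶ Spec (CommRingCat.of A)),
      Flat f ∧ LocallyOfFinitePresentation f ∧ s ∈ Set.range f ∧ ∃ h : Over.mk f ⟶ G, Conj p q h)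
    (s : Spec (CommRingCat.of A)) :
    ∃ (B : CommRingCat.{u}) (f : Spec B ⟶ Spec (CommRingCat.of A)),
      Flat f ∧ LocallyOfFinitePresentation f ∧ s ∈ Set.range f ∧ ∃ h : Over.mk f ⟶ G, Conj p q h := by
  obtain ⟨S', f, hf1, hf2, ⟨s', hs'⟩, h, hh⟩ := hloc s
  let r : Spec (S'.affineOpenCover.X (S'.affineOpenCover.idx s')) ⟶ S' :=
    S'.affineOpenCover.f (S'.affineOpenCover.idx s')
  have h4 : IsOpenImmersion r := S'.affineOpenCover.map_prop _
  obtain ⟨s'', hs''⟩ : s' ∈ Set.range r := S'.affineOpenCover.covers s'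
  let c : Over.mk (r ≫ f) ⟶ Over.mk f := Over.homMk r rfl
  refine ⟨_, r ≫ f, inferInstance, inferInstance, ⟨s'', ?_⟩, c ≫ h, hh.comp c⟩
  rw [Scheme.Hom.comp_apply, hs'', hs']

/-- The points of `U` translating `Q` into the cell. -/
theorem exists_open (p : P ⟶ G) [IsMonHom p] (q : Q ⟶ G)
    (u : U ⟶ G) (v : V ⟶ G) [IsAffine U.left] [IsAffine V.left] [IsAffine P.left] [IsAffine G.left]
    (hN : ∀ (X : Over (Spec (CommRingCat.of A))) (g : X ⟶ G), Conj p p g → Mem p g)
    (hΩ : IsOpenImmersion (cellMap v p).left)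
    (hloc : ∀ s : Spec (CommRingCat.of A), ∃ (S' : Scheme.{u}) (f : S' ⟶ Spec (CommRingCat.of A)),
      Flat f ∧ LocallyOfFinitePresentation f ∧ s ∈ Set.range f ∧ ∃ h : Over.mk f ⟶ G, Conj p q h) :
    ∃ W : U.left.Opens, IsCompact (W : Set U.left) ∧
      (∀ (X : Over (Spec (CommRingCat.of A))) (x : X ⟶ U) (h : X ⟶ G), Conj p q h →
        Mem (cellMap v p) ((x ≫ u)⁻¹ * h) → Set.range x.left ⊆ W) ∧
      (∀ y ∈ W, ∃ (E : Over (Spec (CommRingCat.of A))) (e : E ⟶ U) (h : E ⟶ G),
        y ∈ Set.range e.left ∧ Conj p q h ∧ Mem (cellMap v p) ((e ≫ u)⁻¹ * h)) := by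
  choose B f hf1 hf2 hf3 h hh using hloc_affine hloc
  let T : ∀ _ : Spec (CommRingCat.of A), Over (Spec (CommRingCat.of A)) := fun s => Over.mk (f s)
  let ψ : ∀ s, U ⊗ T s ⟶ G := fun s => (fst U (T s) ≫ u)⁻¹ * (snd U (T s) ≫ h s)
  have hψ : ∀ s {X : Over (Spec (CommRingCat.of A))} (x : X ⟶ U) (y : X ⟶ T s),
      lift x y ≫ ψ s = (x ≫ u)⁻¹ * (y ≫ h s) := by
    intro s X x y
    simp only [ψ]
    rw [MonObj.comp_mul, GrpObj.comp_inv, lift_fst_assoc, lift_snd_assoc]
  let O : ∀ s, (U ⊗ T s).left.Opens := fun s => (ψ s).left ⁻¹ᵁ (cellMap v p).left.opensRange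
  have hopen : ∀ s, IsOpenMap (fst U (T s)).left := by
    intro s
    have h1 := hf1 s
    have h2 := hf2 s
    have h3 : Flat (fst U (T s)).left := inferInstanceAs (Flat (pullback.fst U.hom (f s)))
    have h4 : LocallyOfFinitePresentation (fst U (T s)).left :=
      inferInstanceAs (LocallyOfFinitePresentation (pullback.fst U.hom (f s)))
    have h5 : UniversallyOpen (fst U (T s)).left := inferInstance
    exact (fst U (T s)).left.isOpenMap
  have hVP : IsAffine (V ⊗ P).left := inferInstanceAs (IsAffine (pullback V.hom P.hom))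
  have hΩc : IsCompact (((cellMap v p).left.opensRange : G.left.Opens) : Set G.left) :=
    isCompact_range (cellMap v p).left.continuous
  have hO : ∀ s, IsCompact (O s : Set (U ⊗ T s).left) := by
    intro s
    have h1 : IsAffine (U ⊗ T s).left := inferInstanceAs (IsAffine (pullback U.hom (f s)))
    exact QuasiCompact.isCompact_preimage (f := (ψ s).left) _
      (cellMap v p).left.opensRange.isOpen hΩc
  obtain ⟨t, ht⟩ := (isCompact_univ (X := Spec (CommRingCat.of A))).elim_finite_subcover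
    (fun s => Set.range (f s)) (fun s => by
      have h1 := hf1 s
      have h2 := hf2 s
      have h3 : UniversallyOpen (f s) := inferInstance
      exact (f s).isOpenMap.isOpen_range) (fun s _ => Set.mem_iUnion.2 ⟨s, hf3 s⟩)
  refine ⟨⟨⋃ s ∈ t, (fst U (T s)).left '' (O s), isOpen_biUnion fun s _ => hopen s _ (O s).isOpen⟩,
    t.isCompact_biUnion fun s _ => (hO s).image (fst U (T s)).left.continuous, ?_, ?_⟩
  · rintro X x h' hc hm _ ⟨ξ, rfl⟩
    obtain ⟨s, hs, s', hs'⟩ : ∃ s ∈ t, ∃ s', f s s' = X.hom ξ := by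
      have h1 := ht (Set.mem_univ (X.hom ξ))
      simp only [Set.mem_iUnion] at h1
      obtain ⟨s, hs, s', hs'⟩ := h1
      exact ⟨s, hs, s', hs'⟩
    obtain ⟨z, hz1, hz2⟩ := Scheme.Pullback.exists_preimage_pullback (f := X.hom) (g := f s)
      ξ s' hs'.symm
    let a : X ⊗ T s ⟶ X := fst X (T s)
    let c : X ⊗ T s ⟶ T s := snd X (T s)
    have h1 : Conj p p ((a ≫ h')⁻¹ * (c ≫ h s)) := (hc.comp a).inv.mul ((hh s).comp c)
    have h3 := mem_cell_mul v p (hm.comp a) (hN _ _ h1)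
    have h4 : a ≫ ((x ≫ u)⁻¹ * h') * ((a ≫ h')⁻¹ * (c ≫ h s)) = lift (a ≫ x) c ≫ ψ s := by
      rw [hψ, MonObj.comp_mul, GrpObj.comp_inv, Category.assoc]
      group
    rw [h4] at h3
    obtain ⟨y, hy⟩ := h3
    have h5 : (lift (a ≫ x) c).left z ∈ O s := by
      change (ψ s).left ((lift (a ≫ x) c).left z) ∈ Set.range (cellMap v p).left
      refine ⟨y.left z, ?_⟩
      rw [← Scheme.Hom.comp_apply, ← Scheme.Hom.comp_apply, ← Over.comp_left, ← Over.comp_left, hy]
    refine Set.mem_iUnion₂.2 ⟨s, hs, _, h5, ?_⟩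
    rw [← Scheme.Hom.comp_apply, ← Over.comp_left, lift_fst, Over.comp_left, Scheme.Hom.comp_apply]
    exact congrArg x.left hz1
  · intro y hy
    obtain ⟨s, hs, z, hz, rfl⟩ := Set.mem_iUnion₂.1 hy
    let E : Over (Spec (CommRingCat.of A)) := Over.mk ((O s).ι ≫ (U ⊗ T s).hom)
    let e₀ : E ⟶ U ⊗ T s := Over.homMk (O s).ι rfl
    refine ⟨E, e₀ ≫ fst _ _, e₀ ≫ snd _ _ ≫ h s, ⟨⟨z, hz⟩, ?_⟩, ?_, ?_⟩
    · rw [Over.comp_left, Scheme.Hom.comp_apply]
      rfl
    · rw [← Category.assoc]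
      exact (hh s).comp _
    · have h1 : ((e₀ ≫ fst U (T s)) ≫ u)⁻¹ * (e₀ ≫ snd U (T s) ≫ h s) = e₀ ≫ ψ s := by
        simp only [ψ]
        rw [MonObj.comp_mul, GrpObj.comp_inv, Category.assoc]
      rw [h1]
      apply mem_of_isOpenImmersion
      rintro _ ⟨w, rfl⟩
      have h2 : (e₀ ≫ ψ s).left w = (ψ s).left (e₀.left w) := by
        rw [Over.comp_left, Scheme.Hom.comp_apply]
      rw [h2]
      exact w.2

end Open

section Main

variable {A : Type u} [CommRing A]
variable {G P Q U V : Over (Spec (CommRingCat.of A))} [GrpObj G] [GrpObj P] [GrpObj Q] [GrpObj U]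
  [GrpObj V]

/-- **Conjugacy by `u u'` over an LG-ring** in terms of a global cocharacter. -/
theorem main (hA : LGRing.IsLGRing A)
    (hkey : ∀ s : Spec (CommRingCat.of A), IsClosed {s} →
      Groth.Agent.RedSub.H663.KeyGlue.KeyQ ((Spec (CommRingCat.of A)).residueField s))
    (lam : Red.Gm (Spec (CommRingCat.of A)) ⟶ G) [IsMonHom lam]
    (hG : Red.IsReductive G) (p : P ⟶ G) (q : Q ⟶ G) (hp : IsDynP lam p)
    (hpp : Red.IsParabolic p) (hq : Red.IsParabolic q) (u : U ⟶ G) (hu : IsDynU lam u) (v : V ⟶ G)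
    (hv : IsDynU (negLam lam) v)
    (hconj : ∀ s : Spec (CommRingCat.of A), ∃ g : 𝟙_ _ ⟶ Red.geomFibre s G,
      RedSub.ConjEq ((Over.pullback (Red.geomPt s)).map p) ((Over.pullback (Red.geomPt s)).map q) g) :
    ∃ (a : 𝟙_ (Over (Spec (CommRingCat.of A))) ⟶ U) (b : 𝟙_ (Over (Spec (CommRingCat.of A))) ⟶ V)
      (e : P ≅ Q), e.hom ≫ q =
        (toUnit P ≫ ((a ≫ u) * (b ≫ v))) * p * (toUnit P ≫ ((a ≫ u) * (b ≫ v)))⁻¹ := by
  have haff := hG.1
  have hsm := hG.2.1
  have hpm := hp.isMonHom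
  have hpM := hp.mono
  have hqc : IsClosedImmersion q.left := hq.2.1
  have hqM : Mono q := Sga3C.ClosedSub.mono_of_left q
  have hGaff : IsAffine G.left := isAffine_of_isAffineHom G.hom
  have hpc : IsClosedImmersion p.left := hp.isClosedImmersion
  have huc : IsClosedImmersion u.left := hu.isClosedImmersion
  have hvc : IsClosedImmersion v.left := hv.isClosedImmersion
  have hPaff : IsAffine P.left := isAffine_of_isAffineHom p.left
  have hUaff : IsAffine U.left := isAffine_of_isAffineHom u.left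
  have hVaff : IsAffine V.left := isAffine_of_isAffineHom v.left
  have hN : ∀ (X : Over (Spec (CommRingCat.of A))) (g : X ⟶ G), Conj p p g → Mem p g :=
    fun X g hg => ConjMain.mem_of_conjPt_self
      (PbKN751.isNormalizerOf_of_KN (fun K _ _ => RG.PbQ890.kn K) hG p hpp) hg
  have hloc : ∀ s : Spec (CommRingCat.of A), ∃ (S' : Scheme.{u})
      (f : S' ⟶ Spec (CommRingCat.of A)),
      Flat f ∧ LocallyOfFinitePresentation f ∧ s ∈ Set.range f ∧ ∃ h : Over.mk f ⟶ G, Conj p q h := by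
    intro s
    obtain ⟨g, hg⟩ := hconj s
    rw [H645.ConjEqIff.conjEq_iff] at hg
    exact LC.locConj (fun {S G P} _ _ lam _ p hG hlam s => by
      have := hG.1
      have := hG.2.1
      exact DynGeom678.isIntegral_geomFibre_isDynP hlam s (hG.2.2 s).2.2.1)
      (fun p hG hp s => Uncond688.locDyn p hG hp s) hG p q hpp hq s ⟨g, hg⟩
  have hcell : IsOpenImmersion (cellMap v p).left := DynCell998.isOpenImmersion_cell hp hv
  obtain ⟨W, hW, hW1, hW2⟩ := exists_open p q u v hN hcell hloc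
  obtain ⟨a₀, ha₀⟩ := LGSec.exists_section hA (UAff.isAffRet_of_isDynU lam u hu) W hW (by
    intro s hs
    obtain ⟨g, hg⟩ := hconj s
    rw [H645.ConjEqIff.conjEq_bc_iff, H645.ConjEqIff.conjEq_iff] at hg
    let c : Over.mk (Red.geomPt s) ⟶ (Over.map (Red.geomPt s)).obj (𝟙_ (Over _)) :=
      Over.homMk (𝟙 _) (by
        change 𝟙 _ ≫ 𝟙 _ ≫ Red.geomPt s = Red.geomPt s
        rw [Category.id_comp, Category.id_comp])
    obtain ⟨a, b, y, h⟩ := H663.KeyGlue.key_bc (hkey s hs)
      ((Spec (CommRingCat.of A)).fromSpecResidueField s) lam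
      p q u v hG hp hu hv hq (Spec.map (CommRingCat.ofHom (algebraMap
          ((Spec (CommRingCat.of A)).residueField s)
          (AlgebraicClosure ((Spec (CommRingCat.of A)).residueField s))))) (c ≫ _) (hg.comp c)
    refine ⟨a, ?_⟩
    have h1 := hW1 _ (Over.homMk (Spec.map (CommRingCat.ofHom (algebraMap
          ((Spec (CommRingCat.of A)).residueField s)
          (AlgebraicClosure ((Spec (CommRingCat.of A)).residueField s))))) ≫ a) _ (hg.comp c) (by
      rw [mem_cell_iff]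
      refine ⟨b, y, ?_⟩
      rw [eq_inv_mul_iff_mul_eq, Category.assoc]
      exact h.symm)
    rintro _ ⟨z, rfl⟩
    have h2 := h1 ⟨IsLocalRing.closedPoint _, rfl⟩
    rw [Over.comp_left, Scheme.Hom.comp_apply] at h2
    have h3 : z = (Spec.map (CommRingCat.ofHom (algebraMap
          ((Spec (CommRingCat.of A)).residueField s)
          (AlgebraicClosure ((Spec (CommRingCat.of A)).residueField s)))))
            (IsLocalRing.closedPoint _) := Subsingleton.elim (α := PrimeSpectrum _) _ _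
    rw [h3]
    exact h2)
  obtain ⟨b₀, hb₀⟩ := H663.GlueUV.exists_conj p q v hN hcell hloc
    (a₀ ≫ u)
    (fun Z hZ hZ' => by
      obtain ⟨s, hs, hs'⟩ := hZ.exists_closed_singleton hZ'
      exact ⟨s, hs, hs'⟩)
    (fun s hs => by
      obtain ⟨E, e, h, ⟨ε, hε⟩, hc, hm⟩ := hW2 (a₀.left s) (ha₀ ⟨s, rfl⟩)
      obtain ⟨z, hz1, hz2⟩ := Scheme.Pullback.exists_preimage_pullback (f := a₀.left)
        (g := e.left) s ε hε.symm
      let T : Over (Spec (CommRingCat.of A)) := Over.mk (pullback.snd a₀.left e.left ≫ E.hom)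
      let t₁ : T ⟶ E := Over.homMk (pullback.snd a₀.left e.left) rfl
      have hfst : pullback.fst a₀.left e.left = pullback.snd a₀.left e.left ≫ E.hom := by
        have h1 := congrArg (· ≫ U.hom) (pullback.condition (f := a₀.left) (g := e.left))
        simp only [Category.assoc, Over.w] at h1
        rw [← h1]
        exact (Category.comp_id _).symm
      have ht : toUnit T ≫ a₀ = t₁ ≫ e := by
        ext1
        rw [Over.comp_left, Over.comp_left, LGDec.toUnit_left]
        change (pullback.snd a₀.left e.left ≫ E.hom) ≫ a₀.left = pullback.snd a₀.left e.left ≫ e.left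
        rw [← hfst]
        exact pullback.condition
      refine ⟨T, ⟨z, ?_⟩, t₁ ≫ h, hc.comp t₁, ?_⟩
      · change (pullback.snd a₀.left e.left ≫ E.hom) z = s
        rw [← hfst]
        exact hz1
      · have h2 : (toUnit T ≫ a₀ ≫ u)⁻¹ * (t₁ ≫ h) = t₁ ≫ ((e ≫ u)⁻¹ * h) := by
          rw [MonObj.comp_mul, GrpObj.comp_inv, ← Category.assoc (toUnit T), ht, Category.assoc]
        rw [h2]
        exact hm.comp t₁)
  obtain ⟨e, he⟩ := ConjLocal.exists_iso hb₀
  exact ⟨a₀, b₀, e, he⟩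

end Main

end Groth.Agent.RedSub.K200.LGConj
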