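import Groth.Agent.RedSub.K200.LGSec
import Groth.Agent.RedSub.H671.KeyGlue
import Groth.Agent.Sga3B.Parab.ConjGlue

/-!
# `G(S) = U(S) U'(S) P(S)` over an LG-ring
-/

set_option autoImplicit false

universe u

open CategoryTheory MonoidalCategory CartesianMonoidalCategory MonObj GrpObj AlgebraicGeometry Limits

namespace Groth.Agent.RedSub.K200.LGDec

open Groth.Agent.Sga3B Groth.Agent.Sga3B.Parab Groth.Agent.Sga3B.Parab.ConjGlue
open Groth.Agent.Sga3B.Parab.ConjPt Groth.Agent.RedSub.H663.LiftPts

section Gen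

variable {A : Type u} [CommRing A]

lemma toUnit_left (T : Over (Spec (CommRingCat.of A))) : (toUnit T).left = T.hom := by
  have h := Over.w (toUnit T)
  exact (Category.comp_id _).symm.trans h

/-- the value of the restriction of a section -/
lemma left_apply_of_hom {X T : Over (Spec (CommRingCat.of A))}
    (a : 𝟙_ (Over (Spec (CommRingCat.of A))) ⟶ X) (t : T.left) :
    (toUnit T ≫ a).left t = a.left (T.hom t) := by
  rw [Over.comp_left, toUnit_left]
  exact Scheme.Hom.comp_apply _ _ _

/-- the range of the restriction of a section to a closed point -/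
lemma range_res {X : Over (Spec (CommRingCat.of A))}
    (a : 𝟙_ (Over (Spec (CommRingCat.of A))) ⟶ X) (s : Spec (CommRingCat.of A)) {W : Set X.left}
    (h : a.left s ∈ W) :
    Set.range (toUnit (Over.mk ((Spec (CommRingCat.of A)).fromSpecResidueField s)) ≫ a).left ⊆
      W := by
  rintro _ ⟨y, rfl⟩
  rw [left_apply_of_hom]
  have h1 : (Spec (CommRingCat.of A)).fromSpecResidueField s y = s :=
    Scheme.fromSpecResidueField_apply _ _
  change a.left ((Spec (CommRingCat.of A)).fromSpecResidueField s y) ∈ W
  rw [h1]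
  exact h

end Gen

section Main

variable {A : Type u} [CommRing A]
variable {G P U V : Over (Spec (CommRingCat.of A))} [GrpObj G] [GrpObj P] [GrpObj U] [GrpObj V]

/-- **`G(S) = U(S) U'(S) P(S)`** for the subgroups attached to a cocharacter. -/
theorem main (hA : LGRing.IsLGRing A)
    (hkey : ∀ (k : Type u) [Field k], Groth.Agent.RedSub.H671.KeyGlue.KeyAt k)
    (hG : Red.IsReductive G) (lam : Red.Gm (Spec (CommRingCat.of A)) ⟶ G) [IsMonHom lam]
    (p : P ⟶ G) (u : U ⟶ G) (v : V ⟶ G) (hp : IsDynP lam p) (hu : IsDynU lam u)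
    (hv : IsDynU (negLam lam) v) (g : 𝟙_ (Over (Spec (CommRingCat.of A))) ⟶ G) :
    ∃ (a : 𝟙_ _ ⟶ U) (b : 𝟙_ _ ⟶ V) (x : 𝟙_ _ ⟶ P), g = (a ≫ u) * (b ≫ v) * (x ≫ p) := by
  have haff : IsAffineHom G.hom := hG.1
  have hsm : Smooth G.hom := hG.2.1
  have hGaff : IsAffine G.left := isAffine_of_isAffineHom G.hom
  have hj : IsOpenImmersion (cellMap v p).left := DynCell998.isOpenImmersion_cell hp hv
  have hpc : IsClosedImmersion p.left := hp.isClosedImmersion
  have huc : IsClosedImmersion u.left := hu.isClosedImmersion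
  have hvc : IsClosedImmersion v.left := hv.isClosedImmersion
  have hPaff : IsAffine P.left := isAffine_of_isAffineHom p.left
  have hUaff : IsAffine U.left := isAffine_of_isAffineHom u.left
  have hVaff : IsAffine V.left := isAffine_of_isAffineHom v.left
  have hVP : IsAffine (V ⊗ P).left := inferInstanceAs (IsAffine (pullback V.hom P.hom))
  let ψ : U ⟶ G := u⁻¹ * (toUnit U ≫ g)
  have hψ : ∀ {T : Over (Spec (CommRingCat.of A))} (x : T ⟶ U),
      x ≫ ψ = (x ≫ u)⁻¹ * (toUnit T ≫ g) := by
    intro T x
    simp only [ψ]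
    rw [MonObj.comp_mul, GrpObj.comp_inv, comp_toUnit_assoc]
  let W : U.left.Opens := ψ.left ⁻¹ᵁ (cellMap v p).left.opensRange
  have hΩ : IsCompact (((cellMap v p).left.opensRange : G.left.Opens) : Set G.left) :=
    isCompact_range (cellMap v p).left.continuous
  have hW : IsCompact (W : Set U.left) :=
    QuasiCompact.isCompact_preimage (f := ψ.left) _ (cellMap v p).left.opensRange.isOpen hΩ
  obtain ⟨a, ha⟩ := LGSec.exists_section hA (UAff.isAffRet_of_isDynU lam u hu) W hW (by
    intro s hs
    let z : Spec (CommRingCat.of (AlgebraicClosure ((Spec (CommRingCat.of A)).residueField s))) ⟶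
        Spec (CommRingCat.of A) :=
      Spec.map (CommRingCat.ofHom (algebraMap ((Spec (CommRingCat.of A)).residueField s)
        (AlgebraicClosure ((Spec (CommRingCat.of A)).residueField s)))) ≫
        Spec.map (CommRingCat.ofHom (resMap s))
    obtain ⟨a, b, y, h⟩ := H671.KeyGlue.exists_section hG hp hu hv (resMap s)
      (resMap_surjective hs) (hkey ((Spec (CommRingCat.of A)).residueField s))
      (algebraMap ((Spec (CommRingCat.of A)).residueField s)
        (AlgebraicClosure ((Spec (CommRingCat.of A)).residueField s))) z rfl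
      (toUnit (Over.mk z) ≫ g)
    refine ⟨toUnit _ ≫ a, range_res a s ?_⟩
    have hz : z (IsLocalRing.closedPoint _) = s := by
      simp only [z]
      rw [specMap_resMap, Scheme.Hom.comp_apply]
      exact Scheme.fromSpecResidueField_apply _ _
    have h1 : (toUnit (Over.mk z) ≫ a) ≫ ψ = lift b y ≫ cellMap v p := by
      rw [hψ, comp_cellMap, Category.assoc, h, _root_.mul_assoc, inv_mul_cancel_left]
    have h2 : ψ.left (a.left s) =
        (cellMap v p).left ((lift b y).left (IsLocalRing.closedPoint _)) := by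
      let pt : (Over.mk z).left := IsLocalRing.closedPoint _
      have hz' : (toUnit (Over.mk z)).left pt = s := by
        rw [toUnit_left]
        exact hz
      have h3 : ((toUnit (Over.mk z) ≫ a) ≫ ψ).left pt = (lift b y ≫ cellMap v p).left pt := by
        rw [h1]
      rw [Over.comp_left, Over.comp_left, Scheme.Hom.comp_apply, Scheme.Hom.comp_apply, hz',
        Over.comp_left, Scheme.Hom.comp_apply] at h3
      exact h3
    change ψ.left (a.left s) ∈ Set.range (cellMap v p).left
    exact ⟨_, h2.symm⟩)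
  have h1 : Mem (cellMap v p) (a ≫ ψ) := mem_of_isOpenImmersion _ _ (by
    rintro _ ⟨s, rfl⟩
    have h5 : (a ≫ ψ).left s = ψ.left (a.left s) := by
      rw [Over.comp_left, Scheme.Hom.comp_apply]
    rw [h5]
    exact ha ⟨s, rfl⟩)
  obtain ⟨b, x, h⟩ := (mem_cell_iff _ _ _).1 h1
  refine ⟨a, b, x, ?_⟩
  rw [hψ, toUnit_unit, Category.id_comp] at h
  rw [_root_.mul_assoc, h, mul_inv_cancel_left]

end Main

end Groth.Agent.RedSub.K200.LGDec
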