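import Groth.Prelude.Def_W4c4lgringredgrpLG
import Groth.Agent.RedSub.H663.LiftPts

/-!
# Sections of retracts of affine spaces over LG-rings

`A` an LG-ring, `X` the spectrum of a retract of a polynomial algebra over `A` (`IsAffRet X`), `W` a
quasi-compact open subset of `X` such that for every closed point `s` of `Spec A` some `κ(s)`-valued
point of `X` lies in `W`: there is a section of `X` over `Spec A` with image in `W`.
-/

set_option autoImplicit false

universe u

open CategoryTheory MonoidalCategory CartesianMonoidalCategory MonObj GrpObj AlgebraicGeometry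
open Groth.Agent.Books.AffBridge

namespace Groth.Agent.RedSub.K200.LGSec

open Groth.Agent.Sga3B.Parab.SecThrough Groth.Agent.RedSub.H663.LiftPts

section Alg

open MvPolynomial

variable {A : Type u} [CommRing A] {B : Type u} [CommRing B] [Algebra A B]

/-- The LG property for finitely many functions on a retract of an affine space. -/
theorem exists_algHom (hA : LGRing.IsLGRing A) (hB : IsRetract A B) {J : Type} [Finite J]
    (f : J → B)
    (h : ∀ (m : Ideal A), m.IsMaximal → ∃ φ : B →+* A ⧸ m,
      φ.comp (algebraMap A B) = Ideal.Quotient.mk m ∧ ∃ j, φ (f j) ≠ 0) :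
    ∃ φ : B →ₐ[A] A, ∀ m : Ideal A, m.IsMaximal → ∃ j, φ (f j) ∉ m := by
  classical
  obtain ⟨σ, _, i, r, hr⟩ := hB
  have := Fintype.ofFinite J
  obtain ⟨n, ⟨e⟩⟩ := Finite.exists_equiv_fin (σ ⊕ J)
  -- the polynomial `∑ Y_j f_j`
  let F : MvPolynomial (σ ⊕ J) A := ∑ j : J, X (Sum.inr j) * rename Sum.inl (i (f j))
  have hF : ∀ (S : Type u) [CommRing S] [Algebra A S] (c : σ ⊕ J → S),
      aeval c F = ∑ j : J, c (Sum.inr j) * aeval (fun s => c (Sum.inl s)) (i (f j)) := by
    intro S _ _ c
    simp only [F, map_sum, map_mul, aeval_X, aeval_rename]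
    rfl
  obtain ⟨c, hc⟩ := hA n (rename e F) (by
    intro m hm
    obtain ⟨φ, hφ, j, hj⟩ := h m hm
    let _ : Field (A ⧸ m) := Ideal.Quotient.field m
    let c : σ ⊕ J → A ⧸ m := Sum.elim (fun s => φ (r (X s))) (fun j' => if j' = j then 1 else 0)
    refine ⟨c ∘ e.symm, ?_⟩
    rw [aeval_rename]
    have h1 : (c ∘ e.symm) ∘ e = c := by
      funext t
      simp
    rw [h1, hF, isUnit_iff_ne_zero, Finset.sum_eq_single j]
    · have h2 : (aeval (fun s => c (Sum.inl s)) : MvPolynomial σ A →ₐ[A] A ⧸ m).toRingHom =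
          φ.comp r.toRingHom := by
        apply MvPolynomial.ringHom_ext
        · intro a
          change aeval (fun s => c (Sum.inl s)) (C a) = φ (r (C a))
          rw [aeval_C]
          have h3 : r (C a) = algebraMap A B a := r.commutes a
          rw [h3]
          exact (RingHom.congr_fun hφ a).symm
        · intro s
          change aeval (fun s => c (Sum.inl s)) (X s) = φ (r (X s))
          rw [aeval_X]
          rfl
      have h3 : aeval (fun s => c (Sum.inl s)) (i (f j)) = φ (r (i (f j))) :=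
        RingHom.congr_fun h2 (i (f j))
      have h4 : r (i (f j)) = f j := DFunLike.congr_fun hr (f j)
      rw [h3, h4]
      simp only [c, Sum.elim_inr, if_true]
      rw [_root_.one_mul]
      exact hj
    · intro j' _ hj'
      simp [c, hj']
    · intro h
      exact absurd (Finset.mem_univ j) h)
  rw [aeval_rename, hF] at hc
  refine ⟨(aeval (fun s => (c ∘ e) (Sum.inl s))).comp i, fun m hm => ?_⟩
  by_contra hcon
  push Not at hcon
  refine hm.ne_top (m.eq_top_of_isUnit_mem (Ideal.sum_mem m fun j _ => m.mul_mem_left _ (hcon j)) hc)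

end Alg

section Sch

variable {A : Type u} [CommRing A]

/-- **Sections through a quasi-compact open subset over an LG-ring.** -/
theorem exists_section (hA : LGRing.IsLGRing A) {X : Over (Spec (CommRingCat.of A))}
    (hX : IsAffRet X) (W : X.left.Opens) (hW : IsCompact (W : Set X.left))
    (w : ∀ s : Spec (CommRingCat.of A), IsClosed {s} →
      ∃ a : Over.mk ((Spec (CommRingCat.of A)).fromSpecResidueField s) ⟶ X,
        Set.range a.left ⊆ W) :
    ∃ a : 𝟙_ (Over (Spec (CommRingCat.of A))) ⟶ X, Set.range a.left ⊆ W := by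
  obtain ⟨B, _, _, hB, ⟨e⟩⟩ := hX
  let W' : (SpecOver A B).left.Opens := e.inv.left ⁻¹ᵁ W
  have hee : ∀ x, e.hom.left (e.inv.left x) = x := by
    intro x
    rw [← Scheme.Hom.comp_apply, ← Over.comp_left, e.inv_hom_id]
    rfl
  have hee' : ∀ x, e.inv.left (e.hom.left x) = x := by
    intro x
    rw [← Scheme.Hom.comp_apply, ← Over.comp_left, e.hom_inv_id]
    rfl
  have hW'eq : (W' : Set (SpecOver A B).left) = e.hom.left '' W := by
    ext x
    constructor
    · intro hx
      exact ⟨e.inv.left x, hx, hee x⟩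
    · rintro ⟨y, hy, rfl⟩
      change e.inv.left (e.hom.left y) ∈ W
      rw [hee']
      exact hy
  have hW' : IsCompact (W' : Set (SpecOver A B).left) := by
    rw [hW'eq]
    exact hW.image e.hom.left.continuous
  obtain ⟨t, ht⟩ := PrimeSpectrum.isCompact_isOpen_iff.1
    (⟨hW', W'.isOpen⟩ : IsCompact ((W' : Set (SpecOver A B).left) : Set (PrimeSpectrum B)) ∧
      IsOpen ((W' : Set (SpecOver A B).left) : Set (PrimeSpectrum B)))
  have hmem : ∀ x : PrimeSpectrum B, (show (SpecOver A B).left from x) ∈ W' ↔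
      ∃ f ∈ t, f ∉ x.asIdeal := by
    intro x
    have h1 : x ∈ ((W' : Set (SpecOver A B).left) : Set (PrimeSpectrum B)) ↔
        x ∈ (PrimeSpectrum.zeroLocus (t : Set B))ᶜ := iff_of_eq (congrArg (x ∈ ·) ht.symm)
    refine h1.trans ?_
    rw [Set.mem_compl_iff, PrimeSpectrum.mem_zeroLocus, Set.not_subset]
    rfl
  obtain ⟨n, ⟨en⟩⟩ := Finite.exists_equiv_fin t
  obtain ⟨φ, hφ⟩ := exists_algHom hA hB (fun j : Fin n => ((en.symm j : t) : B)) (by
    intro m hm
    let s : Spec (CommRingCat.of A) := (⟨m, hm.isPrime⟩ : PrimeSpectrum A)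
    have hs : IsClosed {s} := (PrimeSpectrum.isClosed_singleton_iff_isMaximal _).2 hm
    obtain ⟨a, ha⟩ := w s hs
    let χ : B →+* (Spec (CommRingCat.of A)).residueField s :=
      (Spec.preimage (a ≫ e.hom).left).hom
    have hχ : Spec.map (CommRingCat.ofHom χ) = (a ≫ e.hom).left := Spec.map_preimage _
    have hχA : χ.comp (algebraMap A B) = resMap s := by
      have h1 : CommRingCat.ofHom (algebraMap A B) ≫ CommRingCat.ofHom χ =
          CommRingCat.ofHom (resMap s) := by
        apply Spec.map_injective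
        rw [Spec.map_comp, hχ, specMap_resMap]
        exact Over.w (a ≫ e.hom)
      exact congrArg CommRingCat.Hom.hom h1
    -- the residue field is `A / m`
    have hker : RingHom.ker (resMap s) = m := ker_resMap s
    let θ : A ⧸ m ≃+* (Spec (CommRingCat.of A)).residueField s :=
      (Ideal.quotEquivOfEq hker.symm).trans
        (RingHom.quotientKerEquivOfSurjective (resMap_surjective hs))
    have hθ : ∀ x, θ (Ideal.Quotient.mk m x) = resMap s x := fun x => rfl
    refine ⟨θ.symm.toRingHom.comp χ, ?_, ?_⟩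
    · refine RingHom.ext fun x => ?_
      change θ.symm (χ (algebraMap A B x)) = Ideal.Quotient.mk m x
      rw [RingEquiv.symm_apply_eq, hθ, ← hχA]
      rfl
    · have h2 : (a ≫ e.hom).left (IsLocalRing.closedPoint _) ∈ W' := by
        rw [Over.comp_left, Scheme.Hom.comp_apply]
        change e.inv.left (e.hom.left _) ∈ W
        rw [hee']
        exact ha ⟨_, rfl⟩
      rw [← hχ] at h2
      obtain ⟨f, hft, hf⟩ := (hmem (PrimeSpectrum.comap χ (IsLocalRing.closedPoint _))).1 h2
      refine ⟨en ⟨f, hft⟩, fun h0 => hf ?_⟩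
      simp only [Equiv.symm_apply_apply] at h0
      have h3 : χ f = 0 := by
        have h4 : θ.symm (χ f) = 0 := h0
        exact (map_eq_zero_iff θ.symm θ.symm.injective).1 h4
      change χ f ∈ (IsLocalRing.closedPoint _ : PrimeSpectrum _).asIdeal
      rw [h3]
      exact zero_mem _)
  have hcomp : Spec.map (CommRingCat.ofHom φ.toRingHom) ≫ (SpecOver A B).hom = 𝟙 _ := by
    change Spec.map (CommRingCat.ofHom φ.toRingHom) ≫
      Spec.map (CommRingCat.ofHom (algebraMap A B)) = 𝟙 _
    rw [← Spec.map_comp, ← CommRingCat.ofHom_comp]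
    have : φ.toRingHom.comp (algebraMap A B) = RingHom.id A := φ.comp_algebraMap
    rw [this]
    exact Spec.map_id _
  let a : 𝟙_ (Over (Spec (CommRingCat.of A))) ⟶ SpecOver A B :=
    Over.homMk (Spec.map (CommRingCat.ofHom φ.toRingHom)) hcomp
  refine ⟨a ≫ e.inv, ?_⟩
  rintro _ ⟨s, rfl⟩
  rw [Over.comp_left, Scheme.Hom.comp_apply]
  obtain ⟨m, hm, hsm⟩ := Ideal.exists_le_maximal (show PrimeSpectrum A from s).asIdeal
    (show PrimeSpectrum A from s).isPrime.ne_top
  obtain ⟨j, hj⟩ := hφ m hm
  exact (hmem (PrimeSpectrum.comap φ.toRingHom s)).2 ⟨_, (en.symm j).2, fun h => hj (hsm h)⟩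

end Sch

end Groth.Agent.RedSub.K200.LGSec
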