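import Groth.Agent.RedSub.H664.DenseInf
import Groth.Agent.Sga3B.Par.LevFin622
import Groth.Agent.Sga3B.SplitFin885
import Groth.Agent.RedSub.H664.Assembly
import Groth.Agent.RedSub.K200.LGSec

/-!
# Transversal conjugates of parabolic subgroups over LG-rings

`omega p q`: the open set of the `g ∈ G` such that `P × int(g)Q ⟶ G` is smooth.  It is one
`P × Q`-orbit on each fibre, hence quasi-compact over an affine base as soon as it meets every fibre.
-/

set_option autoImplicit false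
set_option linter.unusedSectionVars false

universe u

open CategoryTheory MonoidalCategory CartesianMonoidalCategory MonObj GrpObj AlgebraicGeometry Limits
open Groth.Agent.Sga3B Groth.Agent.Sga3B.Parab Groth.Agent.Sga3B.Parab.Dyn998
open Groth.Agent.Sga3B.Parab.DynLevi998 Groth.Agent.Sga3B.Parab.DynInter998
open Groth.Agent.Sga3B.Parab.DynExist998 Groth.Agent.Sga3B.Parab.SecThrough
open Groth.Agent.RedSub.H661 Groth.Agent.RedSub.H661.Dense Groth.Agent.RedSub.H661.Borels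
open Groth.Agent.RedSub.H664.Comb Groth.Agent.RedSub.H664.Calc2 Groth.Agent.RedSub.H664.Calc3
open Groth.Agent.RedSub.H664.Ad Groth.Agent.RedSub.H664.RedFacts Groth.Agent.RedSub.H664.Min
open Groth.Agent.RedSub.H664.LeviSub Groth.Agent.RedSub.H664.Transp Groth.Agent.RedSub.H664.SecT
open Groth.Agent.RedSub.H664.BcSec Groth.Agent.RedSub.H664.DenseK Groth.Agent.RedSub.H664.DenseInf

namespace Groth.Agent.RedSub.K200.LGTrans

section Any

variable {S T : Scheme.{u}} {G P Q : Over S} [GrpObj G] [GrpObj P] [GrpObj Q]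

lemma tensor_mul {X Y H : Over S} [GrpObj H] (a : X ⟶ H) (b : Y ⟶ H) :
    (a ⊗ₘ b) ≫ μ[H] = (fst X Y ≫ a) * (snd X Y ≫ b) := by
  rw [Hom.mul_def]
  congr 1

section Trans

/-- right translation by a section -/
noncomputable def rtr (g : 𝟙_ (Over S) ⟶ G) : G ⟶ G := 𝟙 G * (toUnit G ≫ g)

lemma comp_rtr (g : 𝟙_ (Over S) ⟶ G) {X : Over S} (x : X ⟶ G) : x ≫ rtr g = x * (toUnit X ≫ g) := by
  rw [rtr, MonObj.comp_mul, Category.comp_id, ← Category.assoc, comp_toUnit]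

lemma rtr_rtr (g h : 𝟙_ (Over S) ⟶ G) (e : g * h = 1) : rtr g ≫ rtr h = 𝟙 G := by
  rw [comp_rtr, rtr, _root_.mul_assoc, ← MonObj.comp_mul, e, MonObj.comp_one, _root_.mul_one]

noncomputable def rtrIso (g : 𝟙_ (Over S) ⟶ G) : G ≅ G where
  hom := rtr g
  inv := rtr g⁻¹
  hom_inv_id := rtr_rtr _ _ (mul_inv_cancel g)
  inv_hom_id := rtr_rtr _ _ (inv_mul_cancel g)

/-- translation on the source -/
noncomputable def str (α : 𝟙_ (Over S) ⟶ P) (β : 𝟙_ (Over S) ⟶ Q) : P ⊗ Q ⟶ P ⊗ Q :=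
  lift (fst P Q * (toUnit _ ≫ α)) (ad β (snd P Q))

lemma str_str (α α' : 𝟙_ (Over S) ⟶ P) (β β' : 𝟙_ (Over S) ⟶ Q) (h : α * α' = 1) (h' : β' * β = 1) :
    str α β ≫ str α' β' = 𝟙 (P ⊗ Q) := by
  rw [str, str, comp_lift, MonObj.comp_mul, lift_fst, ← Category.assoc, comp_toUnit,
    _root_.mul_assoc, ← MonObj.comp_mul, h, MonObj.comp_one, _root_.mul_one, comp_ad, lift_snd,
    ← ad_mul, h', ad_one]
  ext1 <;> simp

noncomputable def strIso (α : 𝟙_ (Over S) ⟶ P) (β : 𝟙_ (Over S) ⟶ Q) : P ⊗ Q ≅ P ⊗ Q where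
  hom := str α β
  inv := str α⁻¹ β⁻¹
  hom_inv_id := str_str _ _ _ _ (mul_inv_cancel α) (inv_mul_cancel β)
  inv_hom_id := str_str _ _ _ _ (inv_mul_cancel α) (mul_inv_cancel β)

lemma mul_eq {p : P ⟶ G} {q : Q ⟶ G} [IsMonHom p] [IsMonHom q] (g : 𝟙_ (Over S) ⟶ G)
    (α : 𝟙_ (Over S) ⟶ P) (β : 𝟙_ (Over S) ⟶ Q) :
    (p ⊗ₘ ad ((α ≫ p) * g * (β ≫ q)) q) ≫ μ[G] =
      str α β ≫ ((p ⊗ₘ ad g q) ≫ μ[G]) ≫ rtr (α ≫ p)⁻¹ := by
  rw [comp_rtr, tensor_mul, tensor_mul, MonObj.comp_mul, MonObj.comp_mul, comp_ad, comp_ad, comp_ad]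
  have h1 : str α β ≫ fst P Q ≫ p = (fst P Q ≫ p) * (toUnit _ ≫ α ≫ p) := by
    rw [← Category.assoc, str, lift_fst, MonObj.mul_comp, Category.assoc]
  have h2 : str α β ≫ snd P Q ≫ q = ad (β ≫ q) (snd P Q ≫ q) := by
    rw [← Category.assoc, str, lift_snd, ad_comp_hom]
  rw [h1, h2]
  rw [← Category.assoc (str α β) (toUnit _), comp_toUnit]
  rw [ad, ad, ad, MonObj.comp_mul, MonObj.comp_mul, GrpObj.comp_inv]
  group

/-- **Translation.** -/
theorem smooth_trans {p : P ⟶ G} {q : Q ⟶ G} [IsMonHom p] [IsMonHom q] (g : 𝟙_ (Over S) ⟶ G)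
    (α : 𝟙_ (Over S) ⟶ P) (β : 𝟙_ (Over S) ⟶ Q) (h : Smooth ((p ⊗ₘ ad g q) ≫ μ[G]).left) :
    Smooth ((p ⊗ₘ ad ((α ≫ p) * g * (β ≫ q)) q) ≫ μ[G]).left := by
  have e1 : IsIso (str α β).left := SmoothMul.isIso_left (strIso α β)
  have e2 : IsIso (rtr (α ≫ p)⁻¹).left := SmoothMul.isIso_left (rtrIso (α ≫ p)⁻¹)
  rw [mul_eq, Over.comp_left, Over.comp_left,
    MorphismProperty.cancel_left_of_respectsIso @Smooth,
    MorphismProperty.cancel_right_of_respectsIso @Smooth]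
  exact h

end Trans

section Meet

/-- `P g Q`, as an open map -/
lemma isOpenMap_dbl {p : P ⟶ G} {q : Q ⟶ G} {g : 𝟙_ (Over S) ⟶ G}
    (h : Smooth ((p ⊗ₘ ad g q) ≫ μ[G]).left) :
    IsOpenMap (((p ⊗ₘ ad g q) ≫ μ[G]) ≫ rtr g).left := by
  have e2 : IsIso (rtr g).left := SmoothMul.isIso_left (rtrIso g)
  have h2 : Smooth (((p ⊗ₘ ad g q) ≫ μ[G]) ≫ rtr g).left := by
    rw [Over.comp_left, MorphismProperty.cancel_right_of_respectsIso @Smooth]
    exact h
  exact Scheme.Hom.isOpenMap _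

lemma dbl_eq {p : P ⟶ G} {q : Q ⟶ G} {g : 𝟙_ (Over S) ⟶ G} {X : Over S} (y : X ⟶ P ⊗ Q) :
    y ≫ ((p ⊗ₘ ad g q) ≫ μ[G]) ≫ rtr g =
      (y ≫ fst P Q ≫ p) * (toUnit X ≫ g) * (y ≫ snd P Q ≫ q) := by
  rw [comp_rtr, tensor_mul, MonObj.comp_mul, MonObj.comp_mul, comp_ad, comp_ad,
    ← Category.assoc y (toUnit _), comp_toUnit, ad]
  group

lemma one_dbl {p : P ⟶ G} {q : Q ⟶ G} [IsMonHom p] [IsMonHom q] {g : 𝟙_ (Over S) ⟶ G} :
    lift (1 : 𝟙_ (Over S) ⟶ P) (1 : 𝟙_ (Over S) ⟶ Q) ≫ ((p ⊗ₘ ad g q) ≫ μ[G]) ≫ rtr g = g := by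
  rw [dbl_eq, ← Category.assoc, ← Category.assoc, lift_fst, lift_snd, MonObj.one_comp,
    MonObj.one_comp, toUnit_unique (toUnit (𝟙_ (Over S))) (𝟙 _), Category.id_comp,
    _root_.one_mul, _root_.mul_one]

/-- Two open double cosets meet in each fibre. -/
theorem exists_meet (hG : Red.IsReductive G) {p : P ⟶ G} {q : Q ⟶ G} [IsMonHom p] [IsMonHom q]
    {g₁ g₂ : 𝟙_ (Over S) ⟶ G}
    (h₁ : Smooth ((p ⊗ₘ ad g₁ q) ≫ μ[G]).left) (h₂ : Smooth ((p ⊗ₘ ad g₂ q) ≫ μ[G]).left) (s : S) :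
    ∃ w₁ w₂ : (P ⊗ Q).left, (((p ⊗ₘ ad g₁ q) ≫ μ[G]) ≫ rtr g₁).left w₁ =
      (((p ⊗ₘ ad g₂ q) ≫ μ[G]) ≫ rtr g₂).left w₂ := by
  have key : ∀ g : 𝟙_ (Over S) ⟶ G, (G.hom ⁻¹' {s} ∩
      Set.range (((p ⊗ₘ ad g q) ≫ μ[G]) ≫ rtr g).left).Nonempty := by
    intro g
    refine ⟨g.left s, ?_, ?_⟩
    · change G.hom (g.left s) = s
      rw [← Scheme.Hom.comp_apply, Over.w]
      rfl
    · exact ⟨(lift (1 : 𝟙_ (Over S) ⟶ P) (1 : 𝟙_ (Over S) ⟶ Q)).left s, by
        rw [← Scheme.Hom.comp_apply, ← Over.comp_left, one_dbl]⟩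
  obtain ⟨_, -, ⟨w₁, rfl⟩, w₂, h⟩ := (Main.isIrreducible_fibre hG s).2 _ _
    (isOpenMap_dbl h₁).isOpen_range (isOpenMap_dbl h₂).isOpen_range (key g₁) (key g₂)
  exact ⟨w₁, w₂, h.symm⟩

end Meet

section Omega

/-- the open set of `g ∈ G` with `P × int(g) Q ⟶ G` smooth -/
def omega (p : P ⟶ G) (q : Q ⟶ G) : G.left.Opens :=
  ⟨{x | LocT p q G.hom (show Over.mk G.hom ⟶ G from 𝟙 G) x}, isOpen_locSm _⟩

variable {p : P ⟶ G} {q : Q ⟶ G}

lemma locT_of_mem {t : T ⟶ S} {τ : Over.mk t ⟶ G} {x : T} (h : τ.left x ∈ omega p q) :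
    LocT p q t τ x := by
  have h1 := locT_bc p q G.hom (show Over.mk G.hom ⟶ G from 𝟙 G)
    (show Over.mk t ⟶ Over.mk G.hom from τ) (x := x) h
  have h2 : (show Over.mk t ⟶ Over.mk G.hom from τ) ≫ (show Over.mk G.hom ⟶ G from 𝟙 G) = τ :=
    Category.comp_id τ
  rwa [h2] at h1

lemma mem_of_denseT (hG : Red.IsReductive G) (hp : Red.IsParabolic p) (hq : Red.IsParabolic q)
    {t : T ⟶ S} {τ : Over.mk t ⟶ G} {x : T} (h : DenseT p q t τ x) : τ.left x ∈ omega p q := by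
  have h2 : (show Over.mk t ⟶ Over.mk G.hom from τ) ≫ (show Over.mk G.hom ⟶ G from 𝟙 G) = τ :=
    Category.comp_id τ
  have h1 := denseT_of_bc p q G.hom (show Over.mk G.hom ⟶ G from 𝟙 G)
    (show Over.mk t ⟶ Over.mk G.hom from τ) (x := x) (by rw [h2]; exact h)
  exact locT_of_denseT hG hp hq h1

lemma denseT_of_smooth (hG : Red.IsReductive G) (hp : Red.IsParabolic p) (hq : Red.IsParabolic q)
    {t : T ⟶ S} {τ : Over.mk t ⟶ G} (h : Smooth (mulT p q t τ).left) (x : T) :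
    DenseT p q t τ x := by
  have hp' := H648.BorBc.isParabolic_bc t hG hp
  have hq' := isParabolic_ad (H648.BorBc.isParabolic_bc t hG hq) (sec t τ)
  have h1 := hp'.1
  have h2 := hq'.1
  exact Main.denseAt_of_isOpenMap (RedBcAny636.isReductive_bc t hG)
    (Scheme.Hom.isOpenMap (mulT p q t τ).left) x

lemma smooth_of_mem {t : T ⟶ S} {τ : Over.mk t ⟶ G} (h : ∀ x, τ.left x ∈ omega p q) :
    Smooth (mulT p q t τ).left :=
  smooth_of_locSm fun x => locT_of_mem (h x)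

/-- `P · Ω · Q ⊆ Ω` -/
theorem mem_omega_mul (hG : Red.IsReductive G) (hp : Red.IsParabolic p) (hq : Red.IsParabolic q)
    {t : T ⟶ S} (a : Over.mk t ⟶ P) (τ : Over.mk t ⟶ G) (b : Over.mk t ⟶ Q)
    (h : ∀ x, τ.left x ∈ omega p q) (x : T) :
    ((a ≫ p) * τ * (b ≫ q)).left x ∈ omega p q := by
  refine mem_of_denseT hG hp hq (denseT_of_smooth hG hp hq ?_ x)
  have hp' := (H648.BorBc.isParabolic_bc t hG hp).1
  have hq' := (H648.BorBc.isParabolic_bc t hG hq).1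
  have h1 := smooth_trans (p := (Over.pullback t).map p) (q := (Over.pullback t).map q) (sec t τ)
    (sec t a) (sec t b) (smooth_of_mem h)
  rw [← sec_comp, ← sec_comp, ← sec_mul, ← sec_mul] at h1
  exact h1

/-- Ω is contained in `P · Ω₀ · Q` as soon as `Ω₀ ⊆ Ω` has the same image in `S`. -/
theorem exists_of_mem_omega (hG : Red.IsReductive G) (hp : Red.IsParabolic p)
    (hq : Red.IsParabolic q) {x₁ x₂ : G.left} (h₁ : x₁ ∈ omega p q) (h₂ : x₂ ∈ omega p q)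
    (h : G.hom x₁ = G.hom x₂) :
    ∃ (V : Over S) (v : V.left) (a : V ⟶ P) (gam τ : V ⟶ G) (b : V ⟶ Q),
      gam.left v = x₁ ∧ (∀ v', τ.left v' = x₂) ∧ gam = (a ≫ p) * τ * (b ≫ q) := by
  obtain ⟨z, hz₁, hz₂⟩ := Scheme.Pullback.exists_preimage_pullback (f := G.hom) (g := G.hom) x₁ x₂ h
  let GG : Over S := Over.mk (pullback.fst G.hom G.hom ≫ G.hom)
  let t : Spec ((pullback G.hom G.hom).residueField z) ⟶ S :=
    (pullback G.hom G.hom).fromSpecResidueField z ≫ pullback.fst G.hom G.hom ≫ G.hom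
  let g₁ : Over.mk t ⟶ G :=
    Over.homMk ((pullback G.hom G.hom).fromSpecResidueField z ≫ pullback.fst G.hom G.hom)
      (Category.assoc _ _ _)
  let g₂ : Over.mk t ⟶ G :=
    Over.homMk ((pullback G.hom G.hom).fromSpecResidueField z ≫ pullback.snd G.hom G.hom) (by
      change (_ ≫ _) ≫ _ = _ ≫ _ ≫ _
      rw [Category.assoc, pullback.condition])
  have hg₁ : ∀ x, g₁.left x = x₁ := by
    intro x
    change ((pullback G.hom G.hom).fromSpecResidueField z ≫ pullback.fst G.hom G.hom) x = x₁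
    rw [Scheme.Hom.comp_apply, Scheme.fromSpecResidueField_apply, hz₁]
  have hg₂ : ∀ x, g₂.left x = x₂ := by
    intro x
    change ((pullback G.hom G.hom).fromSpecResidueField z ≫ pullback.snd G.hom G.hom) x = x₂
    rw [Scheme.Hom.comp_apply, Scheme.fromSpecResidueField_apply, hz₂]
  have hp' := (H648.BorBc.isParabolic_bc t hG hp).1
  have hq' := (H648.BorBc.isParabolic_bc t hG hq).1
  obtain ⟨w₁, w₂, hw⟩ := exists_meet (RedBcAny636.isReductive_bc t hG)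
    (p := (Over.pullback t).map p) (q := (Over.pullback t).map q)
    (smooth_of_mem (p := p) (q := q) (τ := g₁) fun x => by rw [hg₁]; exact h₁)
    (smooth_of_mem (p := p) (q := q) (τ := g₂) fun x => by rw [hg₂]; exact h₂)
    (IsLocalRing.closedPoint _)
  obtain ⟨v, -, -⟩ := Scheme.Pullback.exists_preimage_pullback _ _ hw
  let f₁ := ((((Over.pullback t).map p ⊗ₘ ad (sec t g₁) ((Over.pullback t).map q)) ≫
    μ[Red.bc t G]) ≫ rtr (sec t g₁))
  let f₂ := ((((Over.pullback t).map p ⊗ₘ ad (sec t g₂) ((Over.pullback t).map q)) ≫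
    μ[Red.bc t G]) ≫ rtr (sec t g₂))
  let V' : Over (Spec ((pullback G.hom G.hom).residueField z)) :=
    Over.mk (pullback.fst f₁.left f₂.left ≫ (Red.bc t P ⊗ Red.bc t Q).hom)
  let y₁ : V' ⟶ Red.bc t P ⊗ Red.bc t Q := Over.homMk (pullback.fst f₁.left f₂.left) rfl
  let y₂ : V' ⟶ Red.bc t P ⊗ Red.bc t Q := Over.homMk (pullback.snd f₁.left f₂.left) (by
    change pullback.snd f₁.left f₂.left ≫ (Red.bc t P ⊗ Red.bc t Q).hom =
      pullback.fst f₁.left f₂.left ≫ (Red.bc t P ⊗ Red.bc t Q).hom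
    have e1 : f₁.left ≫ (Red.bc t G).hom = (Red.bc t P ⊗ Red.bc t Q).hom := Over.w f₁
    have e2 : f₂.left ≫ (Red.bc t G).hom = (Red.bc t P ⊗ Red.bc t Q).hom := Over.w f₂
    calc pullback.snd f₁.left f₂.left ≫ (Red.bc t P ⊗ Red.bc t Q).hom
        = pullback.snd f₁.left f₂.left ≫ f₂.left ≫ (Red.bc t G).hom := by rw [e2]
      _ = pullback.fst f₁.left f₂.left ≫ f₁.left ≫ (Red.bc t G).hom := by
        rw [← Category.assoc, ← pullback.condition, Category.assoc]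
      _ = _ := by rw [e1])
  have hy : y₁ ≫ f₁ = y₂ ≫ f₂ := by
    ext1
    exact pullback.condition
  have hy1 := dbl_eq (p := (Over.pullback t).map p) (q := (Over.pullback t).map q)
    (g := sec t g₁) y₁
  have hy2 := dbl_eq (p := (Over.pullback t).map p) (q := (Over.pullback t).map q)
    (g := sec t g₂) y₂
  have hyy := (hy1.symm.trans hy).trans hy2
  -- push down to `S`
  let V : Over S := (Over.map t).obj V'
  let E := DSPts.bcEquiv t V'
  have hE : ∀ (X : Over S) [GrpObj X] (x : X ⟶ G) (c : V' ⟶ Red.bc t X),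
      c ≫ (Over.pullback t).map x = E G ((E X).symm c ≫ x) := by
    intro X _ x c
    rw [← DSPts.bcEquiv_comp, MulEquiv.apply_symm_apply]
  have hsec : ∀ g : Over.mk t ⟶ G, toUnit V' ≫ sec t g =
      E G ((Over.homMk V'.hom : V ⟶ Over.mk t) ≫ g) := by
    intro g
    rw [sec, DSPts.bcEquiv_naturality]
    congr 1
  let a₁ := (E P).symm (y₁ ≫ fst _ _)
  let b₁ := (E Q).symm (y₁ ≫ snd _ _)
  let a₂ := (E P).symm (y₂ ≫ fst _ _)
  let b₂ := (E Q).symm (y₂ ≫ snd _ _)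
  let gam : V ⟶ G := (Over.homMk V'.hom : V ⟶ Over.mk t) ≫ g₁
  let τ : V ⟶ G := (Over.homMk V'.hom : V ⟶ Over.mk t) ≫ g₂
  have hfin : (a₁ ≫ p) * gam * (b₁ ≫ q) = (a₂ ≫ p) * τ * (b₂ ≫ q) := by
    apply (E G).injective
    rw [_root_.map_mul, _root_.map_mul, _root_.map_mul, _root_.map_mul, ← hE, ← hE, ← hE, ← hE, ← hsec, ← hsec]
    rw [Category.assoc, Category.assoc, Category.assoc, Category.assoc]
    exact hyy
  have hpm := hp.1
  have hqm := hq.1
  refine ⟨V, v, a₁⁻¹ * a₂, gam, τ, b₂ * b₁⁻¹, ?_, ?_, ?_⟩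
  · change g₁.left (V'.hom v) = x₁
    exact hg₁ _
  · intro v'
    change g₂.left (V'.hom v') = x₂
    exact hg₂ _
  · rw [MonObj.mul_comp, MonObj.mul_comp, GrpObj.inv_comp, GrpObj.inv_comp]
    have h5 : gam = (a₁ ≫ p)⁻¹ * ((a₁ ≫ p) * gam * (b₁ ≫ q)) * (b₁ ≫ q)⁻¹ := by group
    rw [hfin] at h5
    rw [h5]
    group

end Omega

end Any

section Affine

variable {A : Type u} [CommRing A] {G P Q : Over (Spec (CommRingCat.of A))} [GrpObj G] [GrpObj P]
  [GrpObj Q] {p : P ⟶ G} {q : Q ⟶ G}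

/-- A quasi-compact open subset with given image in an affine (quasi-compact) scheme. -/
lemma exists_compact_open {X S : Scheme.{u}} [CompactSpace S] (f : X ⟶ S) (hf : IsOpenMap f)
    (W : X.Opens) (h : ∀ s : S, ∃ x ∈ W, f x = s) :
    ∃ W₀ : X.Opens, IsCompact (W₀ : Set X) ∧ W₀ ≤ W ∧ ∀ s : S, ∃ x ∈ W₀, f x = s := by
  choose x hxW hxs using h
  have h1 : ∀ s : S, ∃ U : X.Opens, IsAffineOpen U ∧ x s ∈ U ∧ U ≤ W := fun s =>
    exists_isAffineOpen_mem_and_subset (hxW s)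
  choose U hU hxU hUW using h1
  obtain ⟨t, ht⟩ := isCompact_univ.elim_finite_subcover (fun s => f '' (U s : Set X))
    (fun s => hf _ (U s).isOpen) (fun s _ => Set.mem_iUnion.2 ⟨s, x s, hxU s, hxs s⟩)
  refine ⟨⨆ s ∈ t, U s, ?_, iSup₂_le fun s _ => hUW s, fun s => ?_⟩
  · rw [TopologicalSpace.Opens.coe_iSup]
    simp only [TopologicalSpace.Opens.coe_iSup]
    exact t.isCompact_biUnion fun s _ => (hU s).isCompact
  · obtain ⟨s', hs', y, hy, rfl⟩ := Set.mem_iUnion₂.1 (ht (Set.mem_univ s))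
    exact ⟨y, TopologicalSpace.Opens.mem_iSup.2 ⟨s', TopologicalSpace.Opens.mem_iSup.2 ⟨hs', hy⟩⟩,
      rfl⟩

/-- **`Ω` is quasi-compact.** -/
theorem isCompact_omega (hG : Red.IsReductive G) (hp : Red.IsParabolic p)
    (hq : Red.IsParabolic q) (h : ∀ s : Spec (CommRingCat.of A), ∃ x ∈ omega p q, G.hom x = s) :
    IsCompact (omega p q : Set G.left) := by
  have hGa : IsAffineHom G.hom := hG.1
  have hGs : Smooth G.hom := hG.2.1
  have : IsClosedImmersion p.left := hp.2.1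
  have : IsClosedImmersion q.left := hq.2.1
  have hPa : IsAffineHom P.hom := by
    rw [← Over.w p]
    infer_instance
  have hQa : IsAffineHom Q.hom := by
    rw [← Over.w q]
    infer_instance
  obtain ⟨W₀, hW₀, hle, hsurj⟩ := exists_compact_open G.hom G.hom.isOpenMap (omega p q) h
  let T₀ : Over (Spec (CommRingCat.of A)) := Over.mk (W₀.ι ≫ G.hom)
  let i : T₀ ⟶ G := Over.homMk W₀.ι rfl
  have : CompactSpace W₀.toScheme := isCompact_iff_compactSpace.1 hW₀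
  have hTq : QuasiCompact T₀.hom := by
    rw [HasAffineProperty.iff_of_isAffine (P := @QuasiCompact)]
    exact this
  let M : P ⊗ (T₀ ⊗ Q) ⟶ G :=
    (fst _ _ ≫ p) * (snd _ _ ≫ fst _ _ ≫ i) * (snd _ _ ≫ snd _ _ ≫ q)
  have hq1 : QuasiCompact (T₀ ⊗ Q).hom := by
    have : QuasiCompact (pullback.fst T₀.hom Q.hom ≫ T₀.hom) := inferInstance
    exact this
  have hq2 : QuasiCompact (P ⊗ (T₀ ⊗ Q)).hom := by
    have : QuasiCompact (pullback.fst P.hom (T₀ ⊗ Q).hom ≫ P.hom) := inferInstance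
    exact this
  have hcs : CompactSpace (P ⊗ (T₀ ⊗ Q)).left :=
    (HasAffineProperty.iff_of_isAffine (P := @QuasiCompact)).1 hq2
  have hr : (omega p q : Set G.left) = Set.range M.left := by
    ext x
    constructor
    · intro hx
      obtain ⟨x₂, hx₂, hx₂s⟩ := hsurj (G.hom x)
      obtain ⟨V, v, a, gam, τ, b, hgam, hτ, he⟩ :=
        exists_of_mem_omega hG hp hq hx (hle hx₂) hx₂s.symm
      have hτr : Set.range τ.left ⊆ Set.range W₀.ι := by
        rintro _ ⟨v', rfl⟩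
        rw [hτ, Scheme.Opens.range_ι]
        exact hx₂
      let τ' : V ⟶ T₀ := Over.homMk (IsOpenImmersion.lift W₀.ι τ.left hτr) (by
        change _ ≫ W₀.ι ≫ G.hom = _
        rw [IsOpenImmersion.lift_fac_assoc, Over.w])
      have hτ' : τ' ≫ i = τ := by
        ext1
        exact IsOpenImmersion.lift_fac _ _ _
      refine ⟨(lift a (lift τ' b)).left v, ?_⟩
      rw [← Scheme.Hom.comp_apply, ← Over.comp_left]
      have h1 : lift a (lift τ' b) ≫ M = gam := by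
        rw [he]
        simp only [M, MonObj.comp_mul]
        simp only [lift_fst_assoc, lift_snd_assoc, hτ']
      rw [h1, hgam]
    · rintro ⟨z, rfl⟩
      refine mem_omega_mul hG hp hq (t := (P ⊗ (T₀ ⊗ Q)).hom) (fst _ _)
        (snd _ _ ≫ fst _ _ ≫ i) (snd _ _ ≫ snd _ _) (fun x => ?_) z
      apply hle
      rw [Over.comp_left, Over.comp_left, Scheme.Hom.comp_apply, Scheme.Hom.comp_apply]
      exact ((fst T₀ Q).left ((snd P (T₀ ⊗ Q)).left x)).2
  rw [hr]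
  exact isCompact_range M.left.continuous

end Affine

section Main

variable {A : Type u} [CommRing A] {G P P' Q : Over (Spec (CommRingCat.of A))} [GrpObj G]
  [GrpObj P] [GrpObj P'] [GrpObj Q]

/-- **Main theorem.** -/
theorem main (hfin : ∀ (k : Type u) [Field k] [Finite k], D5All k)
    (halg : ∀ (K : Type u) [Field K] [IsAlgClosed K], D5All K)
    (hA : LGRing.IsLGRing A) (hG : Red.IsReductive G) (p : P ⟶ G)
    (p' : P' ⟶ G) (q : Q ⟶ G) (hP : Red.IsParabolic p) (hP' : Red.IsParabolic p')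
    (hQ : Red.IsParabolic q) :
    ∃ g : 𝟙_ (Over (Spec (CommRingCat.of A))) ⟶ G,
      Smooth ((p ⊗ₘ ad g q) ≫ μ[G]).left ∧ Smooth ((p' ⊗ₘ ad g q) ≫ μ[G]).left := by
  have hGa : IsAffineHom G.hom := hG.1
  have hGs : Smooth G.hom := hG.2.1
  obtain ⟨lam₁, _, h₁⟩ := Par.LevFin622.exists_cochar SplitFin885.splitTStmt hG p hP
  obtain ⟨lam₂, _, h₂⟩ := Par.LevFin622.exists_cochar SplitFin885.splitTStmt hG p' hP'
  obtain ⟨mu, _, hq⟩ := Par.LevFin622.exists_cochar SplitFin885.splitTStmt hG q hQ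
  obtain ⟨U, _, u, hu, -⟩ := exists_isDynU mu
  obtain ⟨V, _, v, hv, -⟩ := exists_isDynU (negLam mu)
  have hX : IsAffRet (U ⊗ V) :=
    (UAff.isAffRet_of_isDynU mu u hu).tensor (UAff.isAffRet_of_isDynU (negLam mu) v hv)
  let τ : U ⊗ V ⟶ G := (fst U V ≫ u) * (snd U V ≫ v)
  -- the field case at the points of `Spec A`
  have key : ∀ s : Spec (CommRingCat.of A), ∃ y : Over.mk
      ((Spec (CommRingCat.of A)).fromSpecResidueField s) ⟶ U ⊗ V,
      ∀ x, DenseT p q ((Spec (CommRingCat.of A)).fromSpecResidueField s) (y ≫ τ) x ∧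
        DenseT p' q ((Spec (CommRingCat.of A)).fromSpecResidueField s) (y ≫ τ) x := by
    intro s
    let f : Spec (CommRingCat.of ((Spec (CommRingCat.of A)).residueField s)) ⟶
      Spec (CommRingCat.of A) := (Spec (CommRingCat.of A)).fromSpecResidueField s
    obtain ⟨a, b, ha, hb, hd⟩ := H664.Assembly.exists_dense_any
      (k := (Spec (CommRingCat.of A)).residueField s) hfin halg
      (RedBcAny636.isReductive_bc f hG) (bcLam mu f)
      (bcLam lam₁ f) (bcLam lam₂ f) (h₁.bc f) (h₂.bc f) (hq.bc f)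
      (H648.BorBc.isParabolic_bc f hG hP) (H648.BorBc.isParabolic_bc f hG hP')
      (H648.BorBc.isParabolic_bc f hG hQ)
    obtain ⟨a', rfl⟩ := ((hu.bc f).iff_ptU _ _).2 ha
    obtain ⟨b', rfl⟩ := ((hv.bc f).iff_ptU _ _).2 (by rw [OppS172.bcLam_negLam]; exact hb)
    obtain ⟨α, rfl⟩ := exists_sec f a'
    obtain ⟨β, rfl⟩ := exists_sec f b'
    rw [← sec_comp, ← sec_comp, ← sec_mul] at hd
    have hy : lift α β ≫ τ = (α ≫ u) * (β ≫ v) := by
      rw [MonObj.comp_mul, ← Category.assoc, ← Category.assoc, lift_fst, lift_snd]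
    rw [← hy] at hd
    exact ⟨lift α β, hd⟩
  choose w hw using key
  have hmem : ∀ s x, (w s ≫ τ).left x ∈ omega p q := fun s x => mem_of_denseT hG hP hQ (hw s x).1
  have hmem' : ∀ s x, (w s ≫ τ).left x ∈ omega p' q := fun s x =>
    mem_of_denseT hG hP' hQ (hw s x).2
  have hsurj : ∀ s, G.hom ((w s ≫ τ).left (IsLocalRing.closedPoint _)) = s := by
    intro s
    rw [← Scheme.Hom.comp_apply, Over.w]
    exact Scheme.fromSpecResidueField_apply _ _
  have hc : IsCompact (omega p q : Set G.left) :=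
    isCompact_omega hG hP hQ fun s => ⟨_, hmem s _, hsurj s⟩
  have hc' : IsCompact (omega p' q : Set G.left) :=
    isCompact_omega hG hP' hQ fun s => ⟨_, hmem' s _, hsurj s⟩
  have hGaff : IsAffine G.left := isAffine_of_isAffineHom G.hom
  have hXaff : IsAffine (U ⊗ V).left := by
    obtain ⟨B, _, _, -, ⟨e⟩⟩ := hX
    have : IsIso e.hom.left := SmoothMul.isIso_left e
    exact IsAffine.of_isIso e.hom.left
  let W : (U ⊗ V).left.Opens := τ.left ⁻¹ᵁ (omega p q ⊓ omega p' q)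
  have hW : IsCompact (W : Set (U ⊗ V).left) :=
    QuasiCompact.isCompact_preimage _ (omega p q ⊓ omega p' q).isOpen
      (hc.inter_of_isOpen hc' (omega p q).isOpen (omega p' q).isOpen)
  obtain ⟨c, hcW⟩ := LGSec.exists_section hA hX W hW fun s _ => ⟨w s, by
    rintro _ ⟨x, rfl⟩
    exact ⟨hmem s x, hmem' s x⟩⟩
  have hg : ∀ s, (c ≫ τ).left s ∈ omega p q := fun s => (hcW ⟨s, rfl⟩).1
  have hg' : ∀ s, (c ≫ τ).left s ∈ omega p' q := fun s => (hcW ⟨s, rfl⟩).2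
  exact ⟨c ≫ τ, smooth_of_locSm fun s => locSm_of_locT p q (locT_of_mem (hg s)),
    smooth_of_locSm fun s => locSm_of_locT p' q (locT_of_mem (hg' s))⟩

end Main

end Groth.Agent.RedSub.K200.LGTrans
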