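import Groth.Agent.RedSub.K197.DerSub
import Groth.Agent.RedSub.K199.SubCor
import Groth.Agent.Par.K545.Centre
import Groth.Agent.Sga3B.Parab.ConjMain
import Groth.Agent.Sga3B.Parab.PbKN751
import Groth.Agent.Sga3B.RG.PbQ890
import Groth.Agent.Sga3B.AlgBc2
import Groth.Agent.RedSub.H648.BorBc
import Groth.Agent.S0115
import Groth.Agent.RedSub.H645.BorelEt
import Groth.Agent.Sga3B.RedBcAny636
import Groth.Agent.RedSub.K197.BorDer
import Groth.Agent.RedSub.H648.TypeR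
import Groth.Agent.RedSub.H650.ParClosed
import Groth.Agent.SGA3x.K18.PbKit
import Groth.Agent.S16650

/-!
# Parabolic subgroups of a reductive group and of its derived group
-/

set_option autoImplicit false
set_option linter.unusedSectionVars false
universe u

open CategoryTheory MonoidalCategory CartesianMonoidalCategory MonObj GrpObj AlgebraicGeometry Limits

namespace Groth.Agent.RedSub.K200.ParDer

open Groth.Agent Groth.Agent.Sga3B Groth.Agent.RedSub.H654.Coradical Groth.Agent.Sga3B.Parab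
  Groth.Agent.Sga3B.Parab.ConjLocal K197

/-- The normaliser condition for a parabolic subgroup. -/
lemma mem_of_conj {S : Scheme.{u}} {G P : Over S} [GrpObj G] [GrpObj P] (hG : Red.IsReductive G) (p : P ⟶ G)
    (hp : Red.IsParabolic p) {X : Over S} {g : X ⟶ G} (hg : ConjPt p p X g) : ∃ y : X ⟶ P, y ≫ p = g :=
  ConjMain.mem_of_conjPt_self (PbKN751.isNormalizerOf_of_KN (fun K _ _ => RG.PbQ890.kn K) hG p hp) hg

lemma conjPt_central {S : Scheme.{u}} {G P : Over S} [GrpObj G] (p : P ⟶ G) {X : Over S} {z : X ⟶ G}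
    (hz : ∀ (T : Over S) (t : T ⟶ X) (x : T ⟶ G), (t ≫ z) * x = x * (t ≫ z)) : ConjPt p p X z := by
  intro T t x
  rw [hz, mul_inv_cancel_right]

section

variable {S : Scheme.{u}} {G D Z R C₁ : Over S} [GrpObj G] [GrpObj D] [GrpObj Z] [GrpObj R] [GrpObj C₁]
  {q : G ⟶ C₁} [IsMonHom q] (L : LQ q) {d : D ⟶ G} [IsMonHom d] (hd : AlgGrp.IsKernel d q)
  {j : Z ⟶ G} (hZ : Red.IsCentre j) {r : R ⟶ Z} (hR : Red.IsMaximalTorus r)

include hZ in
lemma central {X : Over S} (z : X ⟶ R) (T : Over S) (t : T ⟶ X) (x : T ⟶ G) :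
    (t ≫ z ≫ r ≫ j) * x = x * (t ≫ z ≫ r ≫ j) := by
  have h := K198.Rad.centre_comm j hZ (t ≫ z ≫ r) x
  simpa only [Category.assoc] using h

include L hd hZ hR in
/-- fppf locally a point of `G` is a product of a point of the radical and a point of the derived group -/
lemma exists_local {X : Over S} (g : X ⟶ G) : ∃ (X' : Over S) (c : X' ⟶ X) (z : X' ⟶ R) (h : X' ⟶ D),
    Fppf.IsCov c ∧ c ≫ g = (z ≫ r ≫ j) * (h ≫ d) := by
  obtain ⟨T', c, x, hc, hx⟩ := Fppf.exists_lift_local (DerSub.isCov_mul L hd hZ hR) g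
  refine ⟨T', c, x ≫ fst _ _, x ≫ snd _ _, hc, ?_⟩
  rw [← hx, RadDer.tensorHom_mul, MonObj.comp_mul]
  simp only [Category.assoc]

include hd in
lemma mono_d : Mono d := by
  have := hd
  constructor
  intro X a b hab
  exact hd.hom_ext hab (toUnit_unique _ _)

include hZ in
/-- the condition on `z * h` -/
lemma conjPt_iff [Mono d] {Q : Over S} (b : Q ⟶ D) {X : Over S} (z : X ⟶ R) (h : X ⟶ D) :
    ConjPt (b ≫ d) (b ≫ d) X ((z ≫ r ≫ j) * (h ≫ d)) ↔ ConjPt b b X h := by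
  have key : ∀ (T : Over S) (t : T ⟶ X) (x : T ⟶ G),
      (t ≫ ((z ≫ r ≫ j) * (h ≫ d))) * x * (t ≫ ((z ≫ r ≫ j) * (h ≫ d)))⁻¹ =
        (t ≫ h ≫ d) * x * (t ≫ h ≫ d)⁻¹ := by
    intro T t x
    have hc := central hZ z T t (r := r) ((t ≫ h ≫ d) * x * (t ≫ h ≫ d)⁻¹)
    rw [MonObj.comp_mul, _root_.mul_inv_rev]
    rw [show (t ≫ z ≫ r ≫ j) * (t ≫ h ≫ d) * x * ((t ≫ h ≫ d)⁻¹ * (t ≫ z ≫ r ≫ j)⁻¹) =
      ((t ≫ z ≫ r ≫ j) * ((t ≫ h ≫ d) * x * (t ≫ h ≫ d)⁻¹)) * (t ≫ z ≫ r ≫ j)⁻¹ by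
        simp only [_root_.mul_assoc], hc, mul_inv_cancel_right]
  constructor
  · intro H T t x
    have h1 := H T t (x ≫ d)
    rw [key] at h1
    have h2 : (t ≫ h ≫ d) * (x ≫ d) * (t ≫ h ≫ d)⁻¹ = ((t ≫ h) * x * (t ≫ h)⁻¹) ≫ d := by
      rw [MonObj.mul_comp, MonObj.mul_comp, GrpObj.inv_comp, Category.assoc]
    rw [h2] at h1
    constructor
    · rintro ⟨y, hy⟩
      obtain ⟨y', hy'⟩ := h1.1 ⟨y, by rw [← Category.assoc, hy]⟩
      exact ⟨y', by rw [← cancel_mono d, Category.assoc, hy']⟩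
    · rintro ⟨y, hy⟩
      obtain ⟨y', hy'⟩ := h1.2 ⟨y, by rw [← Category.assoc, hy]⟩
      exact ⟨y', by rw [← cancel_mono d, Category.assoc, hy']⟩
  · intro H T t x
    rw [key]
    constructor
    · rintro ⟨y, rfl⟩
      obtain ⟨y', hy'⟩ := (H T t (y ≫ b)).1 ⟨y, rfl⟩
      refine ⟨y', ?_⟩
      rw [← Category.assoc, hy', MonObj.mul_comp, MonObj.mul_comp, GrpObj.inv_comp, Category.assoc, Category.assoc]
    · rintro ⟨y, hy⟩
      have h3 : x = ((t ≫ h)⁻¹ * (y ≫ b) * (t ≫ h)) ≫ d := by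
        rw [MonObj.mul_comp, MonObj.mul_comp, GrpObj.inv_comp, Category.assoc, Category.assoc, hy]
        group
      obtain ⟨y', hy'⟩ := (H T t ((t ≫ h)⁻¹ * (y ≫ b) * (t ≫ h))).2 ⟨y, by group⟩
      exact ⟨y', by rw [← Category.assoc, hy', h3]⟩

include L hd hZ hR in
/-- the condition "g normalises the parabolic subgroup Q of D" is represented by a closed subgroup of G -/
theorem exists_norm (hD : Red.IsReductive D) {Q : Over S} [GrpObj Q] (b : Q ⟶ D) [IsMonHom b] (hb : Red.IsParabolic b) :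
    ∃ (P : Over S) (_ : GrpObj P) (p : P ⟶ G), IsMonHom p ∧ IsClosedImmersion p.left ∧
      ∀ (X : Over S) (g : X ⟶ G), (∃ x : X ⟶ P, x ≫ p = g) ↔ ConjPt (b ≫ d) (b ≫ d) X g := by
  have hdm : Mono d := mono_d hd
  have hbc : IsClosedImmersion b.left := hb.2.1
  have hbm : Mono b := Sga3C.ClosedSub.mono_of_left b
  have hF : EtSub.IsLocalPt (ConjPt (b ≫ d) (b ≫ d)) := isLocalPt_conjPt
  obtain ⟨hc1, hc2, hc3⟩ := DerSub.isCov_mul L hd hZ hR
  have hmul : ∀ {X : Over S} (x : X ⟶ R ⊗ D), x ≫ ((r ≫ j) ⊗ₘ d) ≫ μ[G] =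
      ((x ≫ fst _ _) ≫ r ≫ j) * ((x ≫ snd _ _) ≫ d) := by
    intro X x
    rw [RadDer.tensorHom_mul, MonObj.comp_mul]
    simp only [Category.assoc]
  obtain ⟨Z', i, hi, hZ'⟩ := EtClosed.exists_isClosedImmersion hF.isFppfLocal (by
    intro y
    obtain ⟨y', hy'⟩ := hc1.surj y
    refine ⟨(R ⊗ D).left, (R ⊗ Q).left, (((r ≫ j) ⊗ₘ d) ≫ μ[G]).left, (R ◁ b).left, hc2, hc3, ⟨y', hy'⟩, ?_, ?_⟩
    · have h1 : IsPullback (R ◁ b) (snd R Q) (snd R D) b := by
        refine ⟨⟨whiskerLeft_snd _ _⟩, ⟨PullbackCone.IsLimit.mk _ (fun s => lift (s.fst ≫ fst _ _) s.snd) ?_ ?_ ?_⟩⟩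
        · intro s
          have h := s.condition
          refine CartesianMonoidalCategory.hom_ext _ _ ?_ ?_
          · simp
          · simp [h]
        · intro s
          simp
        · intro s m h1 h2
          refine CartesianMonoidalCategory.hom_ext _ _ ?_ ?_
          · rw [← h1]
            simp
          · rw [← h2]
            simp
      exact MorphismProperty.of_isPullback (P := @IsClosedImmersion) (h1.map (Over.forget S)).flip hbc
    · intro T g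
      let X : Over S := Over.mk (g ≫ (R ⊗ D).hom)
      let g' : X ⟶ R ⊗ D := Over.homMk g
      have h1 : EtSub.toP (ConjPt (b ≫ d) (b ≫ d)) (g ≫ (((r ≫ j) ⊗ₘ d) ≫ μ[G]).left) ↔
          ConjPt (b ≫ d) (b ≫ d) X (g' ≫ ((r ≫ j) ⊗ₘ d) ≫ μ[G]) := by
        rw [hF.iff_toP]
        rfl
      rw [h1, hmul, conjPt_iff hZ]
      constructor
      · rintro ⟨x, hx⟩
        let x' : X ⟶ R ⊗ Q := Over.homMk x (by
          change x ≫ (R ⊗ Q).hom = g ≫ (R ⊗ D).hom
          rw [← hx, Category.assoc, Over.w])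
        have hx' : x' ≫ (R ◁ b) = g' := Over.OverMorphism.ext hx
        rw [← hx', Category.assoc, whiskerLeft_snd, ← Category.assoc]
        exact conjPt_self _
      · intro H
        obtain ⟨y, hy⟩ := mem_of_conj hD b hb H
        refine ⟨(lift (g' ≫ fst _ _) y : X ⟶ R ⊗ Q).left, ?_⟩
        have h2 : (lift (g' ≫ fst _ _) y : X ⟶ R ⊗ Q) ≫ (R ◁ b) = g' := by
          refine CartesianMonoidalCategory.hom_ext _ _ ?_ ?_
          · simp
          · simp [hy]
        exact congrArg (fun z => z.left) h2)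
  have hP : ∀ (X : Over S) (g : X ⟶ G), (∃ x : X ⟶ Over.mk (i ≫ G.hom), x ≫ (Over.homMk i rfl : Over.mk (i ≫ G.hom) ⟶ G) = g) ↔
      ConjPt (b ≫ d) (b ≫ d) X g := by
    intro X g
    rw [hF.iff_toP, ← hZ']
    constructor
    · rintro ⟨x, hx⟩
      exact ⟨x.left, congrArg (fun z => z.left) hx⟩
    · rintro ⟨x, hx⟩
      refine ⟨Over.homMk x ?_, ?_⟩
      · change x ≫ i ≫ G.hom = X.hom
        rw [← Category.assoc, hx, Over.w]
      · ext1
        exact hx
  have hcl : IsClosedImmersion (Over.homMk i rfl : Over.mk (i ≫ G.hom) ⟶ G).left := hi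
  have : Mono (Over.homMk i rfl : Over.mk (i ≫ G.hom) ⟶ G) := Sga3C.ClosedSub.mono_of_left _
  obtain ⟨hG, hm⟩ := Sga3C.ClosedSub.exists_grpObj_of_mono (Over.homMk i rfl : Over.mk (i ≫ G.hom) ⟶ G)
    ((hP _ _).2 (by
      have := conjPt_one (b ≫ d) (𝟙_ (Over S))
      rw [← one_eq_one] at this
      exact this))
    ((hP _ _).2 (by
      rw [RadDer.tensorHom_mul]
      exact ((hP _ _).1 ⟨snd _ _, rfl⟩).mul ((hP _ _).1 ⟨fst _ _, rfl⟩)))
    ((hP _ _).2 (by
      exact ((hP _ _).1 ⟨𝟙 _, Category.id_comp _⟩).inv))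
  exact ⟨_, hG, _, hm, hcl, hP⟩

/-- the product of two smooth schemes is smooth -/
lemma smooth_tensor {S : Scheme.{u}} (X Y : Over S) [Smooth X.hom] [Smooth Y.hom] : Smooth (X ⊗ Y).hom := by
  change Smooth (Limits.pullback.fst X.hom Y.hom ≫ X.hom)
  infer_instance

include L hd hZ hR in
/-- properties of the normaliser of a parabolic subgroup of the derived group -/
theorem norm_props (hD : Red.IsReductive D) {Q P : Over S} [GrpObj Q] [GrpObj P] (b : Q ⟶ D) [IsMonHom b]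
    (hb : Red.IsParabolic b) (p : P ⟶ G) [IsMonHom p] [Mono p]
    (hP : ∀ (X : Over S) (g : X ⟶ G), (∃ x : X ⟶ P, x ≫ p = g) ↔ ConjPt (b ≫ d) (b ≫ d) X g) :
    Smooth P.hom ∧ (∃ mZ : Z ⟶ P, mZ ≫ p = j) ∧ ∃ mQ : Q ⟶ P, mQ ≫ p = b ≫ d ∧ IsPullback mQ b p d := by
  have hdm : Mono d := mono_d hd
  have hbc : IsClosedImmersion b.left := hb.2.1
  have hbm : Mono b := Sga3C.ClosedSub.mono_of_left b
  have hrm : IsMonHom r := hR.1
  have hjm : IsMonHom j := hZ.1
  obtain ⟨mQ, hmQ⟩ := (hP _ (b ≫ d)).2 (by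
    have h := conjPt_self (p := b ≫ d) (𝟙 Q)
    rwa [Category.id_comp] at h)
  obtain ⟨mZ, hmZ⟩ := (hP _ j).2 (conjPt_central _ fun T t x => K198.Rad.centre_comm j hZ t x)
  have hmR : (r ≫ mZ) ≫ p = r ≫ j := by rw [Category.assoc, hmZ]
  have hmul : ∀ {X : Over S} (x : X ⟶ R ⊗ D), x ≫ ((r ≫ j) ⊗ₘ d) ≫ μ[G] =
      ((x ≫ fst _ _) ≫ r ≫ j) * ((x ≫ snd _ _) ≫ d) := by
    intro X x
    rw [RadDer.tensorHom_mul, MonObj.comp_mul]
    simp only [Category.assoc]
  have key : ∀ {X : Over S} (z : X ⟶ R) (h : X ⟶ D) (x : X ⟶ P), x ≫ p = (z ≫ r ≫ j) * (h ≫ d) →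
      ∃ y : X ⟶ Q, y ≫ b = h := by
    intro X z h x hx
    have h1 := (hP _ _).1 ⟨x, hx⟩
    rw [conjPt_iff hZ] at h1
    exact mem_of_conj hD b hb h1
  refine ⟨?_, ⟨mZ, hmZ⟩, mQ, hmQ, ⟨⟨hmQ⟩, ⟨PullbackCone.IsLimit.mk _ (fun s => ?_) ?_ ?_ ?_⟩⟩⟩
  · -- smooth
    have hpb : IsPullback ((fst R Q ≫ r ≫ mZ) * (snd R Q ≫ mQ)) (R ◁ b) p (((r ≫ j) ⊗ₘ d) ≫ μ[G]) := by
      have hw : ((fst R Q ≫ r ≫ mZ) * (snd R Q ≫ mQ)) ≫ p = (R ◁ b) ≫ ((r ≫ j) ⊗ₘ d) ≫ μ[G] := by
        rw [RadDer.tensorHom_mul, MonObj.comp_mul, MonObj.mul_comp]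
        simp only [Category.assoc, hmZ, hmQ, whiskerLeft_fst_assoc, whiskerLeft_snd_assoc]
      have hex : ∀ (s : PullbackCone p (((r ≫ j) ⊗ₘ d) ≫ μ[G])), ∃ y : s.pt ⟶ Q, y ≫ b = s.snd ≫ snd _ _ := by
        intro s
        exact key (s.snd ≫ fst _ _) (s.snd ≫ snd _ _) s.fst (s.condition.trans (hmul s.snd))
      refine ⟨⟨hw⟩, ⟨PullbackCone.IsLimit.mk _ (fun s => lift (s.snd ≫ fst _ _) (hex s).choose) ?_ ?_ ?_⟩⟩
      · intro s
        rw [← cancel_mono p, Category.assoc, hw, s.condition, ← Category.assoc]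
        congr 1
        refine CartesianMonoidalCategory.hom_ext _ _ ?_ ?_
        · simp
        · rw [Category.assoc, whiskerLeft_snd, lift_snd_assoc]
          exact (hex s).choose_spec
      · intro s
        refine CartesianMonoidalCategory.hom_ext _ _ ?_ ?_
        · simp
        · rw [Category.assoc, whiskerLeft_snd, lift_snd_assoc]
          exact (hex s).choose_spec
      · intro s m h1 h2
        refine CartesianMonoidalCategory.hom_ext _ _ ?_ ?_
        · rw [lift_fst, ← h2, Category.assoc, whiskerLeft_fst]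
        · rw [lift_snd, ← cancel_mono b, (hex s).choose_spec, ← h2, Category.assoc, Category.assoc, whiskerLeft_snd]
    obtain ⟨hc1, hc2, hc3⟩ := Fppf.IsCov.of_isPullback hpb.flip (DerSub.isCov_mul L hd hZ hR)
    have hs1 : Smooth R.hom := TorusAlgClosed.smooth_of_isTorus hR.2.2.1
    have hs2 : Smooth Q.hom := hb.2.2.1
    have hs3 := smooth_tensor R Q
    have hs4 : Smooth (((fst R Q ≫ r ≫ mZ) * (snd R Q ≫ mQ)).left ≫ P.hom) := by
      rw [Over.w]
      exact hs3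
    exact S0115.result ((fst R Q ≫ r ≫ mZ) * (snd R Q ≫ mQ)).left P.hom
  · exact (key (toUnit _ ≫ η[R]) s.snd s.fst (by
      rw [s.condition, Category.assoc, ← Category.assoc η[R], IsMonHom.one_hom, IsMonHom.one_hom, ← Hom.one_def, _root_.one_mul])).choose
  · intro s
    have h := (key (toUnit _ ≫ η[R]) s.snd s.fst (by
      rw [s.condition, Category.assoc, ← Category.assoc η[R], IsMonHom.one_hom, IsMonHom.one_hom, ← Hom.one_def, _root_.one_mul])).choose_spec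
    rw [← cancel_mono p, Category.assoc, hmQ, ← Category.assoc, h, s.condition]
  · intro s
    exact (key (toUnit _ ≫ η[R]) s.snd s.fst (by
      rw [s.condition, Category.assoc, ← Category.assoc η[R], IsMonHom.one_hom, IsMonHom.one_hom, ← Hom.one_def, _root_.one_mul])).choose_spec
  · intro s m h1 h2
    rw [← cancel_mono b, h2]
    exact (key (toUnit _ ≫ η[R]) s.snd s.fst (by
      rw [s.condition, Category.assoc, ← Category.assoc η[R], IsMonHom.one_hom, IsMonHom.one_hom, ← Hom.one_def, _root_.one_mul])).choose_spec.symm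

lemma conjPt_of_normalizer {P N : Over S} [GrpObj P] [GrpObj N] {p : P ⟶ G} {n : N ⟶ G} (hn : Red.IsNormalizerOf p n)
    {X : Over S} (x : X ⟶ N) : ConjPt p p X (x ≫ n) := by
  intro T t y
  have h := (hn.2.2 X (x ≫ n)).1 ⟨x, rfl⟩ T t
  constructor
  · rintro ⟨z, rfl⟩
    obtain ⟨z', hz'⟩ := (h z).1
    exact ⟨z', hz'.symm⟩
  · rintro ⟨z, hz⟩
    obtain ⟨z', hz'⟩ := (h z).2
    refine ⟨z', ?_⟩
    rw [← hz', hz]
    group

include L hd hZ hR in
/-- A subgroup containing the centre and a Borel subgroup of the derived group contains the normaliser of that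
Borel subgroup. -/
theorem exists_le (hD : Red.IsReductive D) {B' N P : Over S} [GrpObj B'] [GrpObj N] [GrpObj P] (b' : B' ⟶ D)
    (hb' : Red.IsParabolic b') (n : N ⟶ G) (hn : Red.IsNormalizerOf (b' ≫ d) n) (p : P ⟶ G) [IsMonHom p] [Mono p]
    (mZ : Z ⟶ P) (hmZ : mZ ≫ p = j) (mB : B' ⟶ P) (hmB : mB ≫ p = b' ≫ d) : ∃ f : N ⟶ P, f ≫ p = n := by
  have hdm : Mono d := mono_d hd
  obtain ⟨X', c, z, h, hc, he⟩ := exists_local L hd hZ hR n
  have h1 : ConjPt (b' ≫ d) (b' ≫ d) X' ((z ≫ r ≫ j) * (h ≫ d)) := by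
    rw [← he]
    exact conjPt_of_normalizer hn c
  rw [conjPt_iff hZ] at h1
  obtain ⟨y, hy⟩ := mem_of_conj hD b' hb' h1
  refine Fppf.exists_desc_mono hc p n ((z ≫ r ≫ mZ) * (y ≫ mB)) ?_
  rw [he, MonObj.mul_comp]
  simp only [Category.assoc, hmZ, hmB]
  rw [← Category.assoc y, hy]

end

section

variable {S : Scheme.{u}} {G D C₁ : Over S} [GrpObj G] [GrpObj D] [GrpObj C₁]
  {q : G ⟶ C₁} [IsMonHom q] (L : LQ q) {d : D ⟶ G} [IsMonHom d] (hd : AlgGrp.IsKernel d q)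

include L hd in
/-- the geometric fibres of the normaliser of a parabolic subgroup of the derived group are parabolic -/
theorem isParabolic_norm (hG : Red.IsReductive G) (hD : Red.IsReductive D)
    {Z : Over S} [GrpObj Z] {j : Z ⟶ G} (hZ : Red.IsCentre j) {Q P : Over S} [GrpObj Q] [GrpObj P]
    (b : Q ⟶ D) (hb : Red.IsParabolic b) (p : P ⟶ G) [IsMonHom p] (hpc : IsClosedImmersion p.left)
    (hps : Smooth P.hom) (mZ : Z ⟶ P) (hmZ : mZ ≫ p = j) (mQ : Q ⟶ P) (hmQ : mQ ≫ p = b ≫ d) : Red.IsParabolic p := by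
  have hpm : Mono p := Sga3C.ClosedSub.mono_of_left p
  refine ⟨inferInstance, hpc, hps, fun s => ?_⟩
  set w := Red.geomPt s with hw
  obtain ⟨-, -, -, B', _, b', hB'⟩ := hb.2.2.2 s
  have hbm : IsMonHom b := hb.1
  have hG' : Red.IsReductive (Red.bc w G) := Sga3B.RedBcAny636.isReductive_bc w hG
  have hD' : Red.IsReductive (Red.bc w D) := Sga3B.RedBcAny636.isReductive_bc w hD
  obtain ⟨C', _, q', hq', L', h'⟩ := DerCent.exists_LQ_bc hG L hd w
  have hB1 : Red.IsBorel (b' ≫ (Over.pullback w).map b) := AlgBc.isBorel_iff.2 hB'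
  obtain ⟨B, _, i, hi, hBi⟩ := K197.BorDer.exists_norm hG' L' h' hB1
  obtain ⟨Z', R', _, _, j', r', hZ', -, hR'⟩ := _root_.K545.Centre.exists_radical hG'
  have hZw := LocP.isCentre_bc (f := w) hZ
  obtain ⟨e, he⟩ := (hZw.2.2 Z' j').2 (fun X x h => by
    simpa only [Category.comp_id] using K198.Rad.centre_comm j' hZ' x (h ≫ 𝟙 _))
  obtain ⟨f, hf⟩ := exists_le L' h' hZ' hR' hD' _ (H645.BorelEt.isParabolic_of_isBorel hB1) i hi
    ((Over.pullback w).map p) (e ≫ (Over.pullback w).map mZ) (by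
      rw [Category.assoc, ← Functor.map_comp, hmZ, he]) (b' ≫ (Over.pullback w).map mQ) (by
      rw [Category.assoc, Category.assoc, ← Functor.map_comp, ← Functor.map_comp, hmQ])
  refine ⟨inferInstance, SplitBc264.isClosedImmersion_bc w p hpc, ?_, B, inferInstance, f, ?_⟩
  · exact inferInstanceAs (Smooth (pullback.snd P.hom w))
  · rw [hf]
    exact AlgBc.isBorel_iff.1 hBi

/-- A parabolic subgroup of a reductive group is of type (R). -/
theorem isTypeR_of_isParabolic (hG : Red.IsReductive G) {P : Over S} [GrpObj P] {p : P ⟶ G} (hp : Red.IsParabolic p) :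
    RedSub.IsTypeR p := by
  obtain ⟨h1, h2, h3, h4⟩ := hp
  have hGa := hG.1
  refine ⟨⟨h1, inferInstance⟩, h3, ?_, H650.ParClosed.hasConnectedFibres hG p
    ⟨⟨h1, inferInstance⟩, h3, fun s => (h4 s).2.2.2⟩, fun s => ?_⟩
  · rw [← Over.w p]
    infer_instance
  · obtain ⟨h5, h6, h7, B, _, b, hb⟩ := h4 s
    have hGs : IsAffine (Red.geomFibre s G).left := (hG.2.2 s).1
    have h5' := hb.1
    have h6' := hb.2.1
    have h7' := hb.2.2.1
    have h8 : IsAffine B.left := isAffine_of_isAffineHom (b ≫ (Over.pullback (Red.geomPt s)).map p).left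
    have h9 : Mono ((Over.pullback (Red.geomPt s)).map p) := Sga3C.ClosedSub.mono_of_left _
    have h10 : IsMonHom b := K198.Rad.isMonHom_of_comp (rfl : b ≫ (Over.pullback (Red.geomPt s)).map p = _)
    obtain ⟨T, _, t, ht, -⟩ := RG.BrHc.exists_isMaximalTorus B
    obtain ⟨h11, -⟩ := Parab.PbFinal.dynK2B _ _ _ _ (hG.2.2 s) hb T t ht
    have h12 := ht.1
    exact ⟨T, inferInstance, t ≫ b, inferInstance, by rwa [Category.assoc]⟩

include L hd in
/-- the intersection of a parabolic subgroup with the derived group is parabolic -/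
theorem isParabolic_inter (hG : Red.IsReductive G) {P P' : Over S} [GrpObj P] [GrpObj P'] {p : P ⟶ G}
    (hp : Red.IsParabolic p) {a : P' ⟶ P} {b : P' ⟶ D} [IsMonHom a] [IsMonHom b] (hsq : IsPullback a b p d) :
    Red.IsParabolic b := by
  have hdm := SecKer.mono_of_isKernel hd
  have hdcl := BorSec.isClosedImmersion_ker L hd
  have hD := BorSec.isReductive_der hG L hd
  have hGaff : IsAffineHom G.hom := hG.1
  have hDaff : IsAffineHom D.hom := hD.1
  have hp2 := hp.2.1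
  have hbcl : IsClosedImmersion b.left :=
    MorphismProperty.of_isPullback (P := @IsClosedImmersion) (hsq.map (Over.forget _)) hp2
  have hPaff : IsAffineHom P.hom := by
    rw [← Over.w p]
    infer_instance
  have hP'aff : IsAffineHom P'.hom := by
    rw [← Over.w b]
    infer_instance
  obtain ⟨hs, -⟩ := BorSec.smooth_conn_inter hG L hd (isTypeR_of_isParabolic hG hp) hsq
  refine ⟨inferInstance, hbcl, hs, fun s => ?_⟩
  obtain ⟨C', _, q', hq', L', hd'⟩ := DerCent.exists_LQ_bc hG L hd (Red.geomPt s)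
  have hG' : Red.IsReductive (Red.bc (Red.geomPt s) G) := Sga3B.RedBcAny636.isReductive_bc _ hG
  obtain ⟨h1, h2, h3, B, _, i, hB⟩ := hp.2.2.2 s
  have hsq' := hsq.map (Over.pullback (Red.geomPt s))
  have hpm : Mono ((Over.pullback (Red.geomPt s)).map p) := Sga3C.ClosedSub.mono_of_left _
  have him : IsMonHom (i ≫ (Over.pullback (Red.geomPt s)).map p) := hB.1
  have him' : IsMonHom i := K198.Rad.isMonHom_of_comp (rfl : i ≫ (Over.pullback (Red.geomPt s)).map p = _)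
  obtain ⟨hgB', hx, hy⟩ := _root_.K18.PbKit.exists_grpObj_pullback (i ≫ (Over.pullback (Red.geomPt s)).map p)
    ((Over.pullback (Red.geomPt s)).map d) (IsPullback.of_hasPullback _ _)
  have hxy := IsPullback.of_hasPullback (i ≫ (Over.pullback (Red.geomPt s)).map p) ((Over.pullback (Red.geomPt s)).map d)
  have hB' := K197.BorDer.isBorel_inter hG' L' hd' (AlgBc.isBorel_iff.2 hB) hxy
  refine ⟨inferInstance, SplitBc264.isClosedImmersion_bc _ b hbcl, inferInstanceAs (Smooth (pullback.snd P'.hom _)),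
    _, inferInstance, hsq'.lift (pullback.fst _ _ ≫ i) (pullback.snd _ _) (by rw [Category.assoc, hxy.w]), ?_⟩
  rw [hsq'.lift_snd]
  exact AlgBc.isBorel_iff.1 hB'

/-- parabolic subgroups with the same intersection with the derived group coincide -/
theorem exists_hom (hG : Red.IsReductive G) {P₁ P₂ Q : Over S} [GrpObj P₁] [GrpObj P₂] {p₁ : P₁ ⟶ G}
    {p₂ : P₂ ⟶ G} (h₁ : Red.IsParabolic p₁) (h₂ : Red.IsParabolic p₂) {a₁ : Q ⟶ P₁} {a₂ : Q ⟶ P₂} {b : Q ⟶ D}
    (hsq₁ : IsPullback a₁ b p₁ d) (hsq₂ : IsPullback a₂ b p₂ d) (L : LQ q) (hd : AlgGrp.IsKernel d q) :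
    ∃ e : P₁ ⟶ P₂, e ≫ p₂ = p₁ := by
  obtain ⟨Z, R, _, _, j, r, hZ, -, hR⟩ := _root_.K545.Centre.exists_radical hG
  obtain ⟨f₁, hf₁⟩ := S16650.result hG j hZ p₁ h₁
  obtain ⟨f₂, hf₂⟩ := S16650.result hG j hZ p₂ h₂
  obtain ⟨X', c, z, h, hc, he⟩ := exists_local L hd hZ hR p₁
  have hm₁ := h₁.1
  have hm₂ := h₂.1
  have hc₂ := h₂.2.1
  have hM : Mono p₂ := Sga3C.ClosedSub.mono_of_left p₂
  have h3 : ((z ≫ r ≫ f₁)⁻¹ * c) ≫ p₁ = h ≫ d := by
    rw [MonObj.mul_comp, GrpObj.inv_comp, he]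
    simp only [Category.assoc, hf₁]
    group
  refine Fppf.exists_desc_mono hc p₂ p₁ ((z ≫ r ≫ f₂) * (hsq₁.lift _ _ h3 ≫ a₂)) ?_
  rw [he, MonObj.mul_comp]
  simp only [Category.assoc, hf₂]
  rw [hsq₂.w, ← Category.assoc (hsq₁.lift _ _ h3), hsq₁.lift_snd]

end

end Groth.Agent.RedSub.K200.ParDer
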