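import Groth.Agent.SGA1.K151.GmGa
import Mathlib.RingTheory.PicardGroup

/-!
# Torsors under the multiplicative group over a ring with trivial Picard group
-/

set_option autoImplicit false
universe u

open CategoryTheory CategoryTheory.Limits MonoidalCategory CartesianMonoidalCategory MonObj GrpObj
open AlgebraicGeometry TensorProduct
open Groth.Agent.Books.BorelOrb K551.Tors

namespace Groth.Agent.RedSub.K200.TorsGm

section alg

variable {R B : Type u} [CommRing R] [CommRing B] [Algebra R B]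

/-- the solutions of a multiplicative cocycle -/
def sol (u : B ⊗[R] B) : Submodule R B where
  carrier := {k | (1 : B) ⊗ₜ[R] k = u * (k ⊗ₜ[R] (1 : B))}
  add_mem' := by
    intro k k' h h'
    change (1 : B) ⊗ₜ[R] (k + k') = u * ((k + k') ⊗ₜ[R] (1 : B))
    rw [tmul_add, add_tmul, mul_add, ← Set.mem_ofPred.1 h, ← Set.mem_ofPred.1 h']
  zero_mem' := by
    change (1 : B) ⊗ₜ[R] (0 : B) = u * ((0 : B) ⊗ₜ[R] (1 : B))
    rw [tmul_zero, zero_tmul, mul_zero]
  smul_mem' := by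
    intro r k h
    change (1 : B) ⊗ₜ[R] (r • k) = u * ((r • k) ⊗ₜ[R] (1 : B))
    rw [tmul_smul, ← smul_tmul', mul_smul_comm, ← Set.mem_ofPred.1 h]

lemma mem_sol {u : B ⊗[R] B} {k : B} : k ∈ sol u ↔ (1 : B) ⊗ₜ[R] k = u * (k ⊗ₜ[R] (1 : B)) := Iff.rfl

/-- faithfully flat descent of elements -/
lemma mem_range_of_tmul_eq [Module.FaithfullyFlat R B] (x : B) (h : (1 : B) ⊗ₜ[R] x = x ⊗ₜ[R] 1) :
    ∃ a, algebraMap R B a = x := by
  let D : Submodule R B := LinearMap.range (Algebra.linearMap R B)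
  have h1 : (1 : B) ⊗ₜ[R] (D.mkQ x) = 0 := by
    have h2 := congrArg (LinearMap.lTensor B D.mkQ) h
    rw [LinearMap.lTensor_tmul, LinearMap.lTensor_tmul] at h2
    have h3 : D.mkQ (1 : B) = 0 := by
      rw [← LinearMap.mem_ker, Submodule.ker_mkQ]
      exact ⟨1, by simp⟩
    rw [h3, TensorProduct.tmul_zero] at h2
    exact h2
  have h4 := Module.FaithfullyFlat.tensorProduct_mk_injective (A := R) (B := B) (B ⧸ D)
    (a₁ := D.mkQ x) (a₂ := 0) (by simpa using h1)
  rw [← LinearMap.mem_ker, Submodule.ker_mkQ] at h4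
  obtain ⟨a, ha⟩ := h4
  exact ⟨a, ha⟩

lemma mul_mem_one [Module.FaithfullyFlat R B] {u u' : B ⊗[R] B} (huu : u * u' = 1) {k k' : B}
    (hk : k ∈ sol u) (hk' : k' ∈ sol u') : ∃ a, algebraMap R B a = k * k' := by
  apply mem_range_of_tmul_eq
  rw [mem_sol] at hk hk'
  have h1 : (1 : B) ⊗ₜ[R] (k * k') = ((1 : B) ⊗ₜ[R] k) * ((1 : B) ⊗ₜ[R] k') := by
    rw [Algebra.TensorProduct.tmul_mul_tmul, _root_.mul_one]
  have h2 : (k ⊗ₜ[R] (1 : B)) * (k' ⊗ₜ[R] (1 : B)) = (k * k') ⊗ₜ[R] (1 : B) := by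
    rw [Algebra.TensorProduct.tmul_mul_tmul, _root_.mul_one]
  rw [h1, hk, hk']
  calc u * k ⊗ₜ[R] (1 : B) * (u' * k' ⊗ₜ[R] (1 : B)) =
        (u * u') * ((k ⊗ₜ[R] (1 : B)) * (k' ⊗ₜ[R] (1 : B))) := by ring
    _ = _ := by rw [huu, h2, _root_.one_mul]

lemma sol_mul_sol [Module.FaithfullyFlat R B] {u u' : B ⊗[R] B} (huu : u * u' = 1)
    (hs : Ideal.span (sol u : Set B) = ⊤) (hs' : Ideal.span (sol u' : Set B) = ⊤) :
    sol u * sol u' = 1 := by
  apply le_antisymm
  · rw [Submodule.mul_le]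
    intro x hx y hy
    obtain ⟨a, ha⟩ := mul_mem_one huu hx hy
    rw [← ha]
    exact Submodule.algebraMap_mem a
  · rw [Submodule.one_le]
    -- the ideal of the elements of `R` in the product
    let I : Ideal R := (sol u * sol u').comap (Algebra.linearMap R B)
    have hI : I.map (algebraMap R B) = ⊤ := by
      rw [Ideal.eq_top_iff_one]
      have h1 : (1 : B) ∈ Ideal.span (sol u : Set B) * Ideal.span (sol u' : Set B) := by
        rw [hs, hs', Ideal.mul_top]
        exact Submodule.mem_top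
      rw [Ideal.span_mul_span'] at h1
      refine (Ideal.span_le.2 ?_) h1
      rintro _ ⟨k, hk, k', hk', rfl⟩
      obtain ⟨a, ha⟩ := mul_mem_one huu hk hk'
      change k * k' ∈ I.map (algebraMap R B)
      rw [← ha]
      apply Ideal.mem_map_of_mem
      change algebraMap R B a ∈ sol u * sol u'
      rw [ha]
      exact Submodule.mul_mem_mul hk hk'
    have h2 : I = ⊤ := by
      have h3 := Ideal.comap_map_eq_self_of_faithfullyFlat (B := B) I
      rw [hI, Ideal.comap_top] at h3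
      exact h3.symm
    have h4 : (1 : R) ∈ I := by rw [h2]; exact Submodule.mem_top
    have h5 : Algebra.linearMap R B 1 ∈ sol u * sol u' := h4
    simpa using h5

/-- **Multiplicative cocycles are coboundaries if the Picard group is trivial.** -/
theorem exists_unit [Subsingleton (CommRing.Pic R)] [Module.FaithfullyFlat R B] (u : B ⊗[R] B)
    (hunit : IsUnit u) (hu : K151.Amitsur.p12 R B u * K151.Amitsur.p23 R B u = K151.Amitsur.p13 R B u) :
    ∃ k : B, IsUnit k ∧ (1 : B) ⊗ₜ[R] k = u * (k ⊗ₜ[R] (1 : B)) := by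
  obtain ⟨U, rfl⟩ := hunit
  have hs := K151.Amitsur.span_eq_top (U : B ⊗[R] B) U.isUnit hu
  have hu' : K151.Amitsur.p12 R B ↑U⁻¹ * K151.Amitsur.p23 R B ↑U⁻¹ = K151.Amitsur.p13 R B ↑U⁻¹ := by
    have ha : K151.Amitsur.p12 R B ↑U * K151.Amitsur.p12 R B ↑U⁻¹ = 1 := by
      rw [← map_mul, U.mul_inv, map_one]
    have hb : K151.Amitsur.p23 R B ↑U * K151.Amitsur.p23 R B ↑U⁻¹ = 1 := by
      rw [← map_mul, U.mul_inv, map_one]
    have hc : K151.Amitsur.p13 R B ↑U * K151.Amitsur.p13 R B ↑U⁻¹ = 1 := by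
      rw [← map_mul, U.mul_inv, map_one]
    calc K151.Amitsur.p12 R B ↑U⁻¹ * K151.Amitsur.p23 R B ↑U⁻¹ =
          K151.Amitsur.p12 R B ↑U⁻¹ * K151.Amitsur.p23 R B ↑U⁻¹ *
            (K151.Amitsur.p13 R B ↑U * K151.Amitsur.p13 R B ↑U⁻¹) := by rw [hc, _root_.mul_one]
      _ = (K151.Amitsur.p12 R B ↑U * K151.Amitsur.p12 R B ↑U⁻¹) *
            (K151.Amitsur.p23 R B ↑U * K151.Amitsur.p23 R B ↑U⁻¹) * K151.Amitsur.p13 R B ↑U⁻¹ := by
          rw [← hu]; ring
      _ = _ := by rw [ha, hb, _root_.mul_one, _root_.one_mul]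
  have hs' := K151.Amitsur.span_eq_top (↑U⁻¹ : B ⊗[R] B) U⁻¹.isUnit hu'
  have h1 : sol (U : B ⊗[R] B) * sol (↑U⁻¹ : B ⊗[R] B) = 1 := sol_mul_sol U.mul_inv hs hs'
  have h1' : sol (↑U⁻¹ : B ⊗[R] B) * sol (U : B ⊗[R] B) = 1 := sol_mul_sol U.inv_mul hs' hs
  let I : (Submodule R B)ˣ := ⟨_, _, h1, h1'⟩
  have h2 : I ∈ (Submodule.unitsToPic R B).ker := by
    rw [MonoidHom.mem_ker]
    exact Subsingleton.elim _ _
  rw [Submodule.ker_unitsToPic] at h2
  obtain ⟨x, hx⟩ := h2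
  refine ⟨x, x.isUnit, ?_⟩
  have h3 : Submodule.span R {(x : B)} = sol (U : B ⊗[R] B) := congrArg Units.val hx
  rw [← mem_sol, ← h3]
  exact Submodule.mem_span_singleton_self _

end alg

section gm

variable {S : Scheme.{u}} {R : Type u} [CommRing R] (v : Spec (CommRingCat.of R) ⟶ S)

/-- A torsor under the multiplicative group over the spectrum of a ring with trivial Picard group has a
section. -/
theorem hasSection_gm {X : Over S} (a : AlgGrp.Action (Red.Gm S) X)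
    (h : NonAbH1.IsTorsorFor Scheme.fpqcPrecoverage a) [Subsingleton (CommRing.Pic R)] :
    NonAbH1.HasSectionOver X v := by
  have h1 : IsAffineHom (Red.Gm S).hom := K151.GmGa.isAffineHom_gm
  have h2 : Flat (Red.Gm S).hom := K151.GmGa.flat_gm
  have := K151.TorsFpqc.isAffineHom_of_torsor h
  have := K151.TorsFpqc.flat_of_torsor h
  have := K151.TorsFpqc.surjective_of_isLocallyTrivialFor h.2
  obtain ⟨B, _, _, _, ⟨x⟩⟩ := K151.GmGa.exists_sp X v
  have hunit : IsUnit (K151.GmGa.nf v (Red.gmFn (K151.GmGa.dd v h.1 x))) :=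
    K151.GmGa.isUnit_nf v (GmPts.isUnit_gmFn _)
  have hu : K151.Amitsur.p12 R B (K151.GmGa.nf v (Red.gmFn (K151.GmGa.dd v h.1 x))) *
      K151.Amitsur.p23 R B (K151.GmGa.nf v (Red.gmFn (K151.GmGa.dd v h.1 x))) =
      K151.Amitsur.p13 R B (K151.GmGa.nf v (Red.gmFn (K151.GmGa.dd v h.1 x))) := by
    have h := congrArg (fun g => K151.GmGa.nf v (Red.gmFn g)) (K151.GmGa.dd_cocycle v h.1 x)
    simp only [GmPts.gmFn_mul, GmPts.gmFn_comp, K151.GmGa.nf_mul, K151.GmGa.nf_appTop] at h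
    rw [mul_comm]
    exact h
  obtain ⟨k, hk, hk'⟩ := exists_unit _ hunit hu
  have i1 := K151.GmGa.surjective_spec (R := R) (B := B)
  have i2 := K151.GmGa.flat_spec (R := R) (B := B)
  have i3 : QuasiCompact (Spec.map (CommRingCat.ofHom (algebraMap R B))) := inferInstance
  have h5 := K151.GmGa.hasSection_gm v h.1 (𝟙 _) (Spec.map (CommRingCat.ofHom (algebraMap R B)))
    (Category.comp_id _) x k hk hk'
  rwa [Category.id_comp] at h5

end gm

end Groth.Agent.RedSub.K200.TorsGm
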