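import Groth.Agent.RedSub.K200.TorsPar
import Groth.Agent.RedSub.K200.LGConj
import Groth.Agent.RedSub.H663.KeyInf
import Groth.Agent.Sga3B.Par.LevFin622
import Groth.Agent.Sga3B.SplitFin885

/-!
# Injectivity of `H¹(A, P) ⟶ H¹(A, G)` over an LG-ring
-/

set_option autoImplicit false
universe u

open CategoryTheory CategoryTheory.Limits MonoidalCategory CartesianMonoidalCategory MonObj GrpObj AlgebraicGeometry
  Opposite
open Groth.Agent.Books.BorelOrb Groth.Agent.Sga3B.BcPts Groth.Agent.Sga3B.IsoFam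
open Groth.Agent.Sga3B.Parab.ConjPt

namespace Groth.Agent.RedSub.K200.TorsInj

open Groth.Agent.RedSub.H668 Groth.Agent.RedSub.K200.TorsPar
open Groth.Agent.Sga3B Groth.Agent.Sga3B.Parab

section Pts

variable {S : Scheme.{u}} {G Y G₁ : Over S} [GrpObj G] [GrpObj G₁] {aY : AlgGrp.Action G Y}
  {gam : Y ⊗ G₁ ⟶ G}

/-- the isomorphism of groups of points given by a point of the torsor -/
noncomputable def innEquiv (hI : IsInner aY G₁ gam) {T : Over S} (y : T ⟶ Y) : (T ⟶ G₁) →* (T ⟶ G) :=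
  MonoidHom.mk' (fun c => lift y c ≫ gam) fun c c' => hI.mul T y c c'

lemma inv_val (hI : IsInner aY G₁ gam) {T : Over S} (y : T ⟶ Y) (c : T ⟶ G₁) :
    lift y c⁻¹ ≫ gam = (lift y c ≫ gam)⁻¹ := map_inv (innEquiv hI y) c

lemma conj_val (hI : IsInner aY G₁ gam) {T : Over S} (y : T ⟶ Y) (h c : T ⟶ G₁) :
    lift y (h * c * h⁻¹) ≫ gam =
      (lift y h ≫ gam) * (lift y c ≫ gam) * (lift y h ≫ gam)⁻¹ := by
  rw [hI.mul, hI.mul, inv_val hI]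

end Pts

section Conj

variable {S : Scheme.{u}} {G P Y X₁ X₂ : Over S} [GrpObj G] [GrpObj P]
  {a₁ : AlgGrp.Action P X₁} {a₂ : AlgGrp.Action P X₂} {aY : AlgGrp.Action G Y} {p : P ⟶ G}
  {f₁ : X₁ ⟶ Y} {f₂ : X₂ ⟶ Y}
  {G₁ P₁ P₂ : Over S} [GrpObj G₁] [GrpObj P₁] [GrpObj P₂] {gam : Y ⊗ G₁ ⟶ G}
  {del₁ : X₁ ⊗ P₁ ⟶ P} {del₂ : X₂ ⊗ P₂ ⟶ P} {p₁ : P₁ ⟶ G₁} {p₂ : P₂ ⟶ G₁}

/-- `P₁` and `P₂` are conjugate wherever both torsors have points. -/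
theorem exists_conj (hY : RedSub.IsTorsor aY) (hI : IsInner aY G₁ gam) (hJ₁ : IsInner a₁ P₁ del₁)
    (hJ₂ : IsInner a₂ P₂ del₂) (h₁ : Comp p f₁ gam del₁ p₁) (h₂ : Comp p f₂ gam del₂ p₂)
    {T : Over S} (x₁ : T ⟶ X₁) (x₂ : T ⟶ X₂) : ∃ h : T ⟶ G₁, Conj p₁ p₂ h := by
  obtain ⟨g, hg⟩ : ∃ g : T ⟶ G, sm aY g (x₂ ≫ f₂) = x₁ ≫ f₁ := ⟨_, sm_dif hY _ _⟩
  obtain ⟨h, hh⟩ : ∃ h : T ⟶ G₁, lift (x₂ ≫ f₂) h ≫ gam = g := (hI.bij T (x₂ ≫ f₂)).2 g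
  refine ⟨h, fun T' t c => ?_⟩
  rw [h₁.mem_iff hI hJ₁ (t ≫ x₁) c, h₂.mem_iff hI hJ₂ (t ≫ x₂), conj_val hI]
  have e1 : (t ≫ x₁) ≫ f₁ = sm aY (t ≫ g) ((t ≫ x₂) ≫ f₂) := by
    rw [Category.assoc, ← hg, comp_sm, Category.assoc]
  have e2 : lift ((t ≫ x₂) ≫ f₂) (t ≫ h) ≫ gam = t ≫ g := by
    rw [Category.assoc, ← comp_lift, Category.assoc, hh]
  rw [e1, hI.eqv, e2]

/-- **The map of torsors.** -/
theorem exists_map (hY : RedSub.IsTorsor aY) (hX₂ : RedSub.IsTorsor a₂)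
    (hl₂ : NonAbH1.IsLocallyTrivialFor Scheme.fppfPrecoverage X₂)
    (hI : IsInner aY G₁ gam) (hJ₁ : IsInner a₁ P₁ del₁)
    (hJ₂ : IsInner a₂ P₂ del₂) (h₁ : Comp p f₁ gam del₁ p₁) (h₂ : Comp p f₂ gam del₂ p₂)
    (he₁ : Eqv a₁ aY p f₁) (he₂ : Eqv a₂ aY p f₂) [Mono p] [IsMonHom p]
    (hN : ∀ (T : Over S) (g : T ⟶ G), Conj p p g → Mem p g)
    (h : 𝟙_ (Over S) ⟶ G₁) (hh : Conj p₁ p₂ h) :
    ∃ e : X₁ ⟶ X₂, ∀ (T : Over S) (g : T ⟶ P) (x : T ⟶ X₁), sm a₁ g x ≫ e = sm a₂ g (x ≫ e) := by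
  let y : X₁ ⟶ Y := sm aY (lift f₁ (toUnit X₁ ≫ h⁻¹) ≫ gam) f₁
  have hy : ∀ {T : Over S} (t : T ⟶ X₁),
      t ≫ y = sm aY (lift (t ≫ f₁) (toUnit T ≫ h⁻¹) ≫ gam) (t ≫ f₁) := by
    intro T t
    rw [comp_sm, ← Category.assoc, comp_lift, ← Category.assoc t (toUnit X₁), comp_toUnit]
  have claim : ∀ (T : Over S) (t : T ⟶ X₁) (x : T ⟶ X₂), ∃ z : T ⟶ X₂, z ≫ f₂ = t ≫ y := by
    intro T t x
    obtain ⟨g, hg⟩ : ∃ g : T ⟶ G, sm aY g (x ≫ f₂) = t ≫ y := ⟨_, sm_dif hY _ _⟩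
    have hmem : Mem p g := by
      apply hN
      intro T' r b
      obtain ⟨c, rfl⟩ := (hI.bij T' ((r ≫ x) ≫ f₂)).2 b
      change Mem p (lift ((r ≫ x) ≫ f₂) c ≫ gam) ↔
        Mem p ((r ≫ g) * (lift ((r ≫ x) ≫ f₂) c ≫ gam) * (r ≫ g)⁻¹)
      rw [← h₂.mem_iff hI hJ₂ (r ≫ x) c, ← hI.eqv]
      have e1 : sm aY (r ≫ g) ((r ≫ x) ≫ f₂) = (r ≫ t) ≫ y := by
        rw [Category.assoc, ← comp_sm, hg, Category.assoc]
      have e2 := hh T' (toUnit T') ((toUnit T' ≫ h)⁻¹ * c * (toUnit T' ≫ h))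
      have e3 : (toUnit T' ≫ h) * ((toUnit T' ≫ h)⁻¹ * c * (toUnit T' ≫ h)) * (toUnit T' ≫ h)⁻¹ =
          c := by group
      rw [e3] at e2
      rw [← e2, h₁.mem_iff hI hJ₁ (r ≫ t), e1, hy, hI.eqv, ← conj_val hI, GrpObj.comp_inv,
        _root_.inv_inv]
    obtain ⟨π, hπ⟩ := hmem
    exact ⟨sm a₂ π x, by rw [he₂, hπ, hg]⟩
  obtain ⟨e, he, -⟩ := K826.Descend.existsUnique_glue Scheme.fppfPrecoverage_le_fpqcPrecoverage hl₂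
    (T := X₁) (Y := X₂) (fun T t x => (claim T t x).choose)
    (fun T' T'' r t x => he₂.mono hX₂ hY (by
      rw [(claim T'' (r ≫ t) (r ≫ x)).choose_spec, Category.assoc, (claim T' t x).choose_spec,
        Category.assoc]))
    (fun T' t x x' => he₂.mono hX₂ hY
      ((claim T' t x).choose_spec.trans (claim T' t x').choose_spec.symm))
  have hef : e ≫ f₂ = y := by
    refine K826.Descend.hom_ext_of_locTriv Scheme.fppfPrecoverage_le_fpqcPrecoverage hl₂ ?_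
    intro T' t x
    have h3 : t ≫ e = (claim T' t x).choose := he T' t x
    rw [← Category.assoc, h3, (claim T' t x).choose_spec]
  refine ⟨e, fun T g x => he₂.mono hX₂ hY ?_⟩
  rw [Category.assoc, he₂, Category.assoc, hef, hy, hy, he₁, hI.eqv, ← mul_sm, ← mul_sm,
    inv_mul_cancel_right]

end Conj

section Main

variable {A : Type u} [CommRing A] {G P : Over (Spec (CommRingCat.of A))} [GrpObj G] [GrpObj P]

/-- **Injectivity of `H¹(A, P) ⟶ H¹(A, G)` over an LG-ring.** -/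
theorem main (hA : LGRing.IsLGRing A) (hG : Red.IsReductive G) (p : P ⟶ G) (hp : Red.IsParabolic p)
    (X₁ X₂ : NonAbH1.TorsorSch P Scheme.fppfPrecoverage.{u})
    (Y : NonAbH1.TorsorSch G Scheme.fppfPrecoverage.{u})
    (f₁ : X₁.X ⟶ Y.X) (he₁ : Eqv X₁.act Y.act p f₁) (f₂ : X₂.X ⟶ Y.X)
    (he₂ : Eqv X₂.act Y.act p f₂) : Nonempty (NonAbH1.EquivIso X₁.act X₂.act) := by
  have hGa : IsAffineHom G.hom := hG.1
  have hGs : Smooth G.hom := hG.2.1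
  have hpm : IsMonHom p := hp.1
  have hpc : IsClosedImmersion p.left := hp.2.1
  have hpM : Mono p := Over.mono_of_mono_left p
  have hPs : Smooth P.hom := hp.2.2.1
  have hPa : IsAffineHom P.hom := by
    rw [← Over.w p]
    infer_instance
  have hX₁ : RedSub.IsTorsor X₁.act := K551.Tors.redSub_isTorsor X₁.isTorsor
  have hX₂ : RedSub.IsTorsor X₂.act := K551.Tors.redSub_isTorsor X₂.isTorsor
  have hY : RedSub.IsTorsor Y.act := K551.Tors.redSub_isTorsor Y.isTorsor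
  obtain ⟨G₁, _, gam, hI⟩ := exists_inner hY hGa hGs
  obtain ⟨P₁, _, del₁, hJ₁⟩ := exists_inner hX₁ hPa hPs
  obtain ⟨P₂, _, del₂, hJ₂⟩ := exists_inner hX₂ hPa hPs
  obtain ⟨p₁, h₁⟩ := exists_hom he₁ hX₁ X₁.isTorsor.2 hI hJ₁
  obtain ⟨p₂, h₂⟩ := exists_hom he₂ hX₂ X₂.isTorsor.2 hI hJ₂
  have hG₁ : Red.IsReductive G₁ := isReductive_of_inner hY hI hG
  have hp₁ : Red.IsParabolic p₁ := h₁.isParabolic hX₁ X₁.isTorsor.2 hI hJ₁ hG hp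
  have hp₂ : Red.IsParabolic p₂ := h₂.isParabolic hX₂ X₂.isTorsor.2 hI hJ₂ hG hp
  have hG₁a : IsAffineHom G₁.hom := hG₁.1
  have hG₁s : Smooth G₁.hom := hG₁.2.1
  obtain ⟨lam, _, hlam⟩ := Groth.Agent.Sga3B.Par.LevFin622.exists_cochar
    Groth.Agent.Sga3B.SplitFin885.splitTStmt hG₁ p₁ hp₁
  obtain ⟨U, _, u, hu, -⟩ := Groth.Agent.Sga3B.Parab.DynExist998.exists_isDynU lam
  obtain ⟨V, _, v, hv, -⟩ := Groth.Agent.Sga3B.Parab.DynExist998.exists_isDynU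
    (Groth.Agent.Sga3B.Parab.negLam lam)
  obtain ⟨a, b, e, he⟩ := LGConj.main hA
    (fun s _ => Groth.Agent.RedSub.H663.KeyInf.keyQ _) lam hG₁ p₁ p₂ hlam hp₁ hp₂ u hu v hv
    (fun s => by
      obtain ⟨x₁⟩ := exists_geomPt hX₁ hPs s
      obtain ⟨x₂⟩ := exists_geomPt hX₂ hPs s
      obtain ⟨h, hh⟩ := exists_conj hY hI hJ₁ hJ₂ h₁ h₂ x₁ x₂
      exact Groth.Agent.RedSub.H645.ConjEqIff.exists_conjEq_bc _ hh)
  have hc : Conj p₁ p₂ ((a ≫ u) * (b ≫ v)) := LC.conj_of_iso e he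
  have hN : ∀ (T : Over (Spec (CommRingCat.of A))) (g : T ⟶ G), Conj p p g → Mem p g :=
    fun T g hg => ConjMain.mem_of_conjPt_self
      (PbKN751.isNormalizerOf_of_KN (fun K _ _ => RG.PbQ890.kn K) hG p hp) hg
  obtain ⟨φ, hφ⟩ := exists_map hY hX₂ X₂.isTorsor.2 hI hJ₁ hJ₂ h₁ h₂ he₁ he₂ hN _ hc
  have hφ' : X₁.act.act ≫ φ = (P ◁ φ) ≫ X₂.act.act := by
    have h3 := hφ _ (fst P X₁.X) (snd P X₁.X)
    have h4 : sm X₁.act (fst P X₁.X) (snd P X₁.X) = X₁.act.act := by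
      rw [sm, lift_fst_snd, Category.id_comp]
    rw [h4] at h3
    rw [h3, sm]
    congr 1
  have : IsIso φ := K551.Tors.isIso_of_equivariant X₁.isTorsor X₂.isTorsor.1 φ hφ'
  exact ⟨{ iso := asIso φ, comm := hφ' }⟩

end Main

end Groth.Agent.RedSub.K200.TorsInj
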