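import Groth.Agent.RedSub.K200.TorsInj
import Groth.Agent.NonAbH1.K554.FibAct
import Groth.Agent.PrincBund.K826.PushTors
import Groth.Agent.Sga3B.Par.LeviProj

/-!
# Torsors under a parabolic subgroup and its Levi subgroup

* `exists_fibre`: `X` a torsor under `P`, `q : X ⟶ Y` equivariant along `π : P ⟶ L`; the fibre of `q` over a
  section of `Y` is a torsor under the kernel of `π`.
* `exists_push`: the push forward of an fppf torsor.
* `exists_section_field`: over a field a `P`-torsor with trivial associated `G`-torsor is trivial.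
-/

set_option autoImplicit false
universe u

open CategoryTheory CategoryTheory.Limits MonoidalCategory CartesianMonoidalCategory MonObj GrpObj AlgebraicGeometry
  Opposite
open Groth.Agent.Books.BorelOrb Groth.Agent.RedSub.K200.TorsPar

namespace Groth.Agent.RedSub.K200.TorsLevi

section Eqv

variable {S S' : Scheme.{u}} {G P Y X : Over S} [GrpObj G] [GrpObj P]
  {aX : AlgGrp.Action P X} {aY : AlgGrp.Action G Y} {p : P ⟶ G} {f : X ⟶ Y}

lemma push_of_eqv (h : Eqv aX aY p f) : aX.act ≫ f = lift (fst P X ≫ p) (snd P X ≫ f) ≫ aY.act := by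
  have h1 := h _ (fst P X) (snd P X)
  have h2 : sm aX (fst P X) (snd P X) = aX.act := by rw [sm, lift_fst_snd, Category.id_comp]
  rw [h2] at h1
  exact h1

lemma isEquivariant_of_eqv [IsMonHom p] (h : Eqv aX aY p f) :
    AlgGrp.Action.IsEquivariant aX (aY.restrict p) f := by
  unfold AlgGrp.Action.IsEquivariant
  rw [push_of_eqv h, AlgGrp.Action.restrict_act, ← Category.assoc]
  congr 1
  apply CartesianMonoidalCategory.hom_ext <;> simp

lemma eqv_of_isEquivariant [IsMonHom p] (h : AlgGrp.Action.IsEquivariant aX (aY.restrict p) f) :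
    Eqv aX aY p f := by
  apply eqv_of_push
  unfold AlgGrp.Action.IsEquivariant at h
  rw [h, AlgGrp.Action.restrict_act, ← Category.assoc]
  congr 1
  apply CartesianMonoidalCategory.hom_ext <;> simp

/-- base change of an equivariant map -/
lemma Eqv.bc [IsMonHom p] (h : Eqv aX aY p f) (g : S' ⟶ S) :
    Eqv (aX.bc g) (aY.bc g) ((Over.pullback g).map p) ((Over.pullback g).map f) := by
  apply eqv_of_isEquivariant
  rw [← AlgGrp.Action.bc_restrict]
  exact AlgGrp.Action.isEquivariant_bc g (isEquivariant_of_eqv h)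

/-- translations: a homomorphism is equivariant for left translations -/
lemma eqv_trivial [IsMonHom p] : Eqv (NonAbH1.trivialAction P) (NonAbH1.trivialAction G) p p := by
  intro T g x
  have h1 : ∀ {H : Over S} [GrpObj H] (a b : T ⟶ H), sm (NonAbH1.trivialAction H) a b = a * b :=
    fun a b => (Hom.mul_def a b).symm
  rw [h1, h1, MonObj.mul_comp]

end Eqv

section Fibre

variable {S : Scheme.{u}} {P L U X Y : Over S} [GrpObj P] [GrpObj L] [GrpObj U]

/-- `U` is the kernel of `π`, which has the section `l` -/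
structure KerData (π : P ⟶ L) (u : U ⟶ P) (l : L ⟶ P) : Prop where
  monHom_π : IsMonHom π
  monHom_u : IsMonHom u
  mono_u : Mono u
  u_π : ∀ (T : Over S) (b : T ⟶ U), (b ≫ u) ≫ π = 1
  ker : ∀ (T : Over S) (g : T ⟶ P), g ≫ π = 1 → ∃ b : T ⟶ U, b ≫ u = g
  l_π : l ≫ π = 𝟙 L

variable {π : P ⟶ L} {u : U ⟶ P} {l : L ⟶ P} (D : KerData π u l)
  {aX : AlgGrp.Action P X} {aY : AlgGrp.Action L Y} {q : X ⟶ Y}

/-- **The fibre over a section is a torsor under the kernel.** -/
theorem exists_fibre (D : KerData π u l) (hX : NonAbH1.IsTorsorFor Scheme.fppfPrecoverage aX)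
    (hY : NonAbH1.IsPseudoTorsorSch aY) (hq : Eqv aX aY π q) (y : 𝟙_ (Over S) ⟶ Y) :
    ∃ (Z : Over S) (aZ : AlgGrp.Action U Z) (_ : Z ⟶ X),
      NonAbH1.IsTorsorFor Scheme.fppfPrecoverage aZ := by
  have hπ := D.monHom_π
  have hu := D.monHom_u
  have huM := D.mono_u
  let Z : Over S := pullback q y
  have hcond : ∀ {T : Over S} (z : T ⟶ Z), (z ≫ pullback.fst q y) ≫ q = toUnit T ≫ y := by
    intro T z
    rw [Category.assoc, pullback.condition, ← Category.assoc]
    congr 1
    exact toUnit_unique _ _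
  have hinv : ∀ {T : Over S} (b : T ⟶ U) (x : T ⟶ X), sm aX (b ≫ u) x ≫ q = x ≫ q := by
    intro T b x
    rw [hq, D.u_π, one_sm]
  let act : U ⊗ Z ⟶ Z := pullback.lift (sm aX (fst U Z ≫ u) (snd U Z ≫ pullback.fst q y))
    (toUnit _) (by rw [hinv, hcond])
  have hact : ∀ {T : Over S} (b : T ⟶ U) (z : T ⟶ Z),
      (lift b z ≫ act) ≫ pullback.fst q y = sm aX (b ≫ u) (z ≫ pullback.fst q y) := by
    intro T b z
    rw [Category.assoc, pullback.lift_fst, comp_sm, lift_fst_assoc, lift_snd_assoc]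
  have hext : ∀ {T : Over S} {z z' : T ⟶ Z}, z ≫ pullback.fst q y = z' ≫ pullback.fst q y →
      z = z' := by
    intro T z z' h
    apply pullback.hom_ext h
    exact toUnit_unique _ _
  let aZ : AlgGrp.Action U Z := K554.FibAct.mkAction act
    (fun T z => hext (by rw [hact, MonObj.one_comp, one_sm]))
    (fun T b b' z => hext (by rw [hact, hact, hact, MonObj.mul_comp, mul_sm]))
  have hsm : ∀ {T : Over S} (b : T ⟶ U) (z : T ⟶ Z),
      sm aZ b z ≫ pullback.fst q y = sm aX (b ≫ u) (z ≫ pullback.fst q y) := by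
    intro T b z
    exact hact b z
  refine ⟨Z, aZ, pullback.fst q y, K551.Tors.isPseudoTorsorSch_of_points aZ ?_, ?_⟩
  · intro T z z'
    let g := K551.Tors.dif hX.1 (z ≫ pullback.fst q y) (z' ≫ pullback.fst q y)
    have hg : sm aX g (z' ≫ pullback.fst q y) = z ≫ pullback.fst q y := K551.Tors.sm_dif hX.1 _ _
    have h1 : g ≫ π = 1 := by
      apply K551.Tors.sm_injective hY ((z' ≫ pullback.fst q y) ≫ q)
      rw [← hq, hg, one_sm, hcond, hcond]
    obtain ⟨b, hb⟩ := D.ker T g h1
    refine ⟨b, hext (by rw [hsm, hb, hg]), fun b' hb' => ?_⟩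
    rw [← cancel_mono u, hb]
    apply K551.Tors.sm_injective hX.1 (z' ≫ pullback.fst q y)
    rw [hg, ← hsm, hb']
  · obtain ⟨R, hR, hsec⟩ := hX.2
    refine ⟨R, hR, fun S' f hf => ?_⟩
    obtain ⟨s, hs⟩ := hsec f hf
    let x : Over.mk f ⟶ X := Over.homMk s hs
    let lam := K551.Tors.dif hY (toUnit (Over.mk f) ≫ y) (x ≫ q)
    have hlam : sm aY lam (x ≫ q) = toUnit (Over.mk f) ≫ y := K551.Tors.sm_dif hY _ _
    let x' : Over.mk f ⟶ X := sm aX (lam ≫ l) x
    have hx' : x' ≫ q = toUnit (Over.mk f) ≫ y := by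
      rw [hq, Category.assoc, D.l_π, Category.comp_id, hlam]
    let z : Over.mk f ⟶ Z := pullback.lift x' (toUnit _) hx'
    exact ⟨z.left, Over.w z⟩

end Fibre

section Push

variable {S : Scheme.{u}} {P L : Over S} [GrpObj P] [GrpObj L]

/-- **Push forward of fppf torsors.** -/
theorem exists_push (π : P ⟶ L) [IsMonHom π] [IsAffineHom L.hom]
    (X : NonAbH1.TorsorSch P Scheme.fppfPrecoverage.{u}) :
    ∃ (Y : NonAbH1.TorsorSch L Scheme.fppfPrecoverage.{u}) (q : X.X ⟶ Y.X), Eqv X.act Y.act π q := by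
  have hl : NonAbH1.IsLocallyTrivialFor Scheme.fpqcPrecoverage X.X := by
    obtain ⟨R, hR, h⟩ := X.isTorsor.2
    exact ⟨R, Scheme.fppfPrecoverage_le_fpqcPrecoverage _ hR, h⟩
  obtain ⟨E, -, ⟨r⟩⟩ := K826.PushRep.exists_rep π X.act X.isTorsor.1 hl
  let q := K826.PushTors.qE π X.act r X.isTorsor.1
  exact ⟨⟨E, K826.PushTors.actE π X.act r, K826.PushTors.pseudo_actE π X.act r X.isTorsor.1 hl,
    K826.BcTors.isLocallyTrivialFor_of_hom q X.isTorsor.2⟩, q,
    eqv_of_push (K826.PushTors.act_qE π X.act r X.isTorsor.1)⟩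

end Push

section Field

variable {K : Type u} [Field K]

/-- fields are LG-rings -/
theorem isLGRing_of_field : LGRing.IsLGRing K := by
  intro n f hf
  obtain ⟨s, hs⟩ := hf (⊥ : Ideal K)
  have hsurj : Function.Surjective (Ideal.Quotient.mk (⊥ : Ideal K)) := Ideal.Quotient.mk_surjective
  choose t ht using fun i => hsurj (s i)
  refine ⟨t, ?_⟩
  rw [isUnit_iff_ne_zero]
  intro h0
  have h1 : MvPolynomial.aeval s f = Ideal.Quotient.mk (⊥ : Ideal K) (MvPolynomial.aeval t f) := by
    have h2 : s = fun i => Ideal.Quotient.mkₐ K (⊥ : Ideal K) (t i) := by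
      funext i
      exact (ht i).symm
    rw [h2]
    rw [← MvPolynomial.comp_aeval]
    rfl
  rw [h1, h0, map_zero] at hs
  exact not_isUnit_zero hs

variable {G P : Over (Spec (CommRingCat.of K))} [GrpObj G] [GrpObj P]

/-- Over a field a `P`-torsor whose associated `G`-torsor is trivial is trivial. -/
theorem exists_section_field (hG : Red.IsReductive G) (p : P ⟶ G) (hp : Red.IsParabolic p)
    (X : NonAbH1.TorsorSch P Scheme.fppfPrecoverage.{u}) (f : X.X ⟶ G)
    (hf : Eqv X.act (NonAbH1.trivialAction G) p f) :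
    Nonempty (𝟙_ (Over (Spec (CommRingCat.of K))) ⟶ X.X) := by
  have hpm : IsMonHom p := hp.1
  obtain ⟨e⟩ := TorsInj.main isLGRing_of_field hG p hp X
    ⟨P, NonAbH1.trivialAction P, NonAbH1.isTorsorFor_trivialAction P Scheme.fppfPrecoverage⟩
    ⟨G, NonAbH1.trivialAction G, NonAbH1.isTorsorFor_trivialAction G Scheme.fppfPrecoverage⟩
    f hf p eqv_trivial
  exact ⟨η[P] ≫ e.iso.inv⟩

end Field

end Groth.Agent.RedSub.K200.TorsLevi
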