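import Groth.Agent.RedSub.K200.TorsLevi
import Groth.Agent.RedSub.H658.RadDyn
import Groth.Agent.RedSub.H658.DynUAff
import Groth.Agent.RedSub.H658.TorsTriv

/-!
# Torsors under a parabolic subgroup over a localisation
-/

set_option autoImplicit false
universe u

open CategoryTheory CategoryTheory.Limits MonoidalCategory CartesianMonoidalCategory MonObj GrpObj AlgebraicGeometry
  Opposite
open Groth.Agent.Books.BorelOrb Groth.Agent.RedSub.K200.TorsPar Groth.Agent.RedSub.K200.TorsLevi
open Groth.Agent.Sga3B Groth.Agent.Sga3B.Par.LeviProj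

namespace Groth.Agent.RedSub.K200.TorsLoc

section Bc

variable {S S' : Scheme.{u}} {P L U : Over S} [GrpObj P] [GrpObj L] [GrpObj U]

/-- the kernel data of a semi-direct product after a base change -/
theorem kerData_bc {l : L ⟶ P} {u : U ⟶ P} (h : IsSemi l u) (f : S' ⟶ S) :
    KerData ((Over.pullback f).map (prL h)) ((Over.pullback f).map u) ((Over.pullback f).map l) where
  monHom_π := inferInstance
  monHom_u := by
    have := h.monHom_u
    infer_instance
  mono_u := by
    have := h.mono_u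
    infer_instance
  u_π T b := by
    apply (DSPts.bcEquiv f T L).symm.injective
    have h1 : (b ≫ (Over.pullback f).map u) ≫ (Over.pullback f).map (prL h) =
        b ≫ (Over.pullback f).map (u ≫ prL h) := by
      rw [Functor.map_comp, Category.assoc]
    obtain ⟨b', rfl⟩ := (DSPts.bcEquiv f T U).surjective b
    rw [h1, DSPts.bcEquiv_comp, MulEquiv.symm_apply_apply, ← Category.assoc, u_prL, map_one]
  ker T g hg := by
    obtain ⟨g', rfl⟩ := (DSPts.bcEquiv f T P).surjective g
    rw [DSPts.bcEquiv_comp] at hg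
    have h1 : g' ≫ prL h = 1 := (DSPts.bcEquiv f T L).injective (by rw [hg, map_one])
    obtain ⟨b, rfl⟩ := exists_of_prL_eq_one h g' h1
    exact ⟨DSPts.bcEquiv f T U b, DSPts.bcEquiv_comp f T b u⟩
  l_π := by
    rw [← Functor.map_comp, l_prL]
    exact CategoryTheory.Functor.map_id _ _

end Bc

section Main

variable {R : Type u} [CommRing R] {Rr : Type u} [CommRing Rr] {K : Type u} [Field K]
  (f : Spec (CommRingCat.of Rr) ⟶ Spec (CommRingCat.of R))
  (g : Spec (CommRingCat.of K) ⟶ Spec (CommRingCat.of Rr))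
  {G P L : Over (Spec (CommRingCat.of R))} [GrpObj G] [GrpObj P] [GrpObj L]

/-- **Main theorem.** -/
theorem main (hG : Red.IsReductive G) (i : P ⟶ G) (hP : Red.IsParabolic i) (l : L ⟶ P)
    (hL : Par.IsLevi l)
    (hL' : ∀ Y : NonAbH1.TorsorSch (Red.bc f L) Scheme.fppfPrecoverage,
      NonAbH1.HasSectionOver Y.X g → NonAbH1.HasSectionOver Y.X (𝟙 (Spec (CommRingCat.of Rr))))
    (X : NonAbH1.TorsorSch (Red.bc f P) Scheme.fppfPrecoverage)
    (hX : NonAbH1.IsPushforwardAlongSch ((Over.pullback f).map i) X.act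
      (NonAbH1.trivialAction (Red.bc f G))) :
    NonAbH1.HasSectionOver X.X (𝟙 (Spec (CommRingCat.of Rr))) := by
  have hGa : IsAffineHom G.hom := hG.1
  have hGs : Smooth G.hom := hG.2.1
  obtain ⟨-, -, hLr, U, _, u, hU, -⟩ := id hL
  have hsemi : IsSemi l u := isSemi_of_isLevi hL hU
  have D := kerData_bc hsemi f
  have hπ := D.monHom_π
  have hLa : IsAffineHom L.hom := hLr.1
  have hLa' : IsAffineHom (Red.bc f L).hom := MorphismProperty.pullback_snd (P := @IsAffineHom) _ _ hLa
  have hG' : Red.IsReductive (Red.bc f G) := RedBcAny636.isReductive_bc f hG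
  have hP' : Red.IsParabolic ((Over.pullback f).map i) := RedSub.H648.BorBc.isParabolic_bc f hG hP
  have hpm : IsMonHom i := hP.1
  obtain ⟨f₀, hf₀⟩ := hX
  have hf₁ : Eqv X.act (NonAbH1.trivialAction (Red.bc f G)) ((Over.pullback f).map i) f₀ :=
    eqv_of_push hf₀
  -- a section over `K`
  have hpm' : IsMonHom ((Over.pullback f).map i) := hP'.1
  obtain ⟨x⟩ := exists_section_field (RedBcAny636.isReductive_bc g hG')
    ((Over.pullback g).map ((Over.pullback f).map i))
    (RedSub.H648.BorBc.isParabolic_bc g hG' hP') (X.bc g) ((Over.pullback g).map f₀)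
    (Eqv.bc hf₁ g)
  have hxK : NonAbH1.HasSectionOver X.X g := by
    obtain ⟨xl, hxl⟩ : ∃ xl : Spec (CommRingCat.of K) ⟶ pullback X.X.hom g,
        xl ≫ pullback.snd X.X.hom g = 𝟙 _ := ⟨x.left, Over.w x⟩
    exact ⟨xl ≫ pullback.fst X.X.hom g, by
      rw [Category.assoc, pullback.condition, ← Category.assoc, hxl, Category.id_comp]⟩
  -- the push forward to `L`
  obtain ⟨Y, q, hq⟩ := exists_push ((Over.pullback f).map (prL hsemi)) X
  have hyK : NonAbH1.HasSectionOver Y.X g := by
    obtain ⟨s, hs⟩ := hxK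
    exact ⟨s ≫ q.left, by rw [Category.assoc, Over.w, hs]⟩
  obtain ⟨s, hs⟩ := hL' Y hyK
  let y : 𝟙_ (Over (Spec (CommRingCat.of Rr))) ⟶ Y.X := Over.homMk s hs
  -- the fibre
  obtain ⟨Z, aZ, z, hZ⟩ := exists_fibre D X.isTorsor Y.isTorsor.1 hq y
  obtain ⟨lam, hlam, -, hdyn⟩ := RedSub.H658.RadDyn.exists_cochar hG i hP u hU
  have hdyn' := hdyn.bc f
  have hGa' : IsAffineHom (Red.bc f G).hom := hG'.1
  have hGs' : Smooth (Red.bc f G).hom := hG'.2.1
  obtain ⟨B, _, _, e, _, δ, hsm, hδ, h0, hF⟩ := RedSub.H658.DynUAff.exists_graded hdyn'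
  have hUs : Smooth (Red.bc f U).hom := Groth.Agent.Sga3B.Parab.DynSmooth998.isDynU_smooth hdyn'
  have hZ' : RedSub.IsTorsor aZ := K551.Tors.redSub_isTorsor hZ
  obtain ⟨w⟩ := RedSub.H658.TorsTriv.hasSection hδ h0 hF e aZ hZ'
  exact ⟨(w ≫ z).left, Over.w (w ≫ z)⟩

end Main

end Groth.Agent.RedSub.K200.TorsLoc
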