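import Groth.Agent.RedSub.H668.Adapt
import Groth.Agent.PrincBund.K826.Descend
import Groth.Agent.NonAbH1.K551.Tors
import Groth.Agent.Par.K546.Pair
import Groth.Agent.Sga3B.ResAlg

/-!
# Inner forms of subgroups

`Y` a torsor under `G` with inner form `(G₁, γ)`, `X` a torsor under `P` with inner form `(P₁, δ)`,
`f : X ⟶ Y` equivariant along `p : P ⟶ G`.  There is a homomorphism `p₁ : P₁ ⟶ G₁` with
`γ (f x, p₁ c) = p (δ (x, c))`; it is parabolic if `p` is.
-/

set_option autoImplicit false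
universe u

open CategoryTheory CategoryTheory.Limits MonoidalCategory CartesianMonoidalCategory MonObj GrpObj AlgebraicGeometry
  Opposite
open Groth.Agent.Books.BorelOrb Groth.Agent.Sga3B.BcPts Groth.Agent.Sga3B.IsoFam
open Groth.Agent.Sga3B.Parab.ConjPt

namespace Groth.Agent.RedSub.K200.TorsPar

open Groth.Agent.RedSub.H668

variable {S : Scheme.{u}} {G P Y X : Over S} [GrpObj G] [GrpObj P]

/-- equivariance of `f : X ⟶ Y` along `p : P ⟶ G` -/
def Eqv (aX : AlgGrp.Action P X) (aY : AlgGrp.Action G Y) (p : P ⟶ G) (f : X ⟶ Y) : Prop :=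
  ∀ (T : Over S) (g : T ⟶ P) (x : T ⟶ X), sm aX g x ≫ f = sm aY (g ≫ p) (x ≫ f)

lemma eqv_of_push {aX : AlgGrp.Action P X} {aY : AlgGrp.Action G Y} {p : P ⟶ G} {f : X ⟶ Y}
    (h : aX.act ≫ f = lift (fst P X ≫ p) (snd P X ≫ f) ≫ aY.act) : Eqv aX aY p f := by
  intro T g x
  rw [sm, sm, Category.assoc, h, ← Category.assoc, comp_lift, lift_fst_assoc, lift_snd_assoc]

variable {aX : AlgGrp.Action P X} {aY : AlgGrp.Action G Y} {p : P ⟶ G} {f : X ⟶ Y}

/-- an equivariant map along a monomorphism is a monomorphism -/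
lemma Eqv.mono (h : Eqv aX aY p f) (hX : RedSub.IsTorsor aX) (hY : RedSub.IsTorsor aY) [Mono p]
    [IsMonHom p] {T : Over S} {x x' : T ⟶ X} (e : x ≫ f = x' ≫ f) : x = x' := by
  have h1 : sm aX (dif hX x x') x' = x := sm_dif hX x x'
  have h2 := h T (dif hX x x') x'
  rw [h1, e] at h2
  have h3 : dif hX x x' ≫ p = 1 :=
    sm_injective hY (x' ≫ f) (by rw [← h2, one_sm])
  have h4 : dif hX x x' = 1 := by
    rw [← cancel_mono p, h3, MonObj.one_comp]
  rw [← h1, h4, one_sm]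

section Inner

variable {G₁ P₁ : Over S} [GrpObj G₁] [GrpObj P₁]

/-- the compatibility of `p₁` with `p` -/
def Comp (p : P ⟶ G) (f : X ⟶ Y) (gam : Y ⊗ G₁ ⟶ G) (del : X ⊗ P₁ ⟶ P) (p₁ : P₁ ⟶ G₁) : Prop :=
  ∀ (T : Over S) (x : T ⟶ X) (c : T ⟶ P₁), lift (x ≫ f) (c ≫ p₁) ≫ gam = (lift x c ≫ del) ≫ p

variable {gam : Y ⊗ G₁ ⟶ G} {del : X ⊗ P₁ ⟶ P}

/-- **Existence of `p₁`.** -/
theorem exists_hom (h : Eqv aX aY p f) (hX : RedSub.IsTorsor aX) (hXl : NonAbH1.IsLocallyTrivialFor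
      Scheme.fppfPrecoverage X) [IsMonHom p]
    (hI : IsInner aY G₁ gam) (hJ : IsInner aX P₁ del) :
    ∃ p₁ : P₁ ⟶ G₁, Comp p f gam del p₁ := by
  obtain ⟨p₁, hp₁, -⟩ := K826.Descend.existsUnique_glue Scheme.fppfPrecoverage_le_fpqcPrecoverage hXl
    (T := P₁) (Y := G₁)
    (fun T t x => hI.pre (x ≫ f) ((lift x t ≫ del) ≫ p))
    (fun T' T'' r t x => by
      rw [hI.comp_pre, ← Category.assoc, ← Category.assoc, ← Category.assoc, comp_lift])
    (fun T t x x' => by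
      refine hI.pre_eq ?_
      have h1 : sm aX (dif hX x x') x' = x := sm_dif hX x x'
      have h2 := h T (dif hX x x') x'
      rw [h1] at h2
      rw [h2, hI.eqv, hI.pre_spec]
      have h3 := hJ.eqv T (dif hX x x') x' t
      rw [h1] at h3
      rw [h3, MonObj.mul_comp, MonObj.mul_comp, GrpObj.inv_comp])
  refine ⟨p₁, fun T x c => ?_⟩
  have h1 : c ≫ p₁ = hI.pre (x ≫ f) ((lift x c ≫ del) ≫ p) := hp₁ T c x
  rw [h1, hI.pre_spec]

variable {p₁ : P₁ ⟶ G₁}

/-- the points of `P₁` in terms of a point of the torsor -/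
theorem Comp.mem_iff (h : Comp p f gam del p₁) (hI : IsInner aY G₁ gam) (hJ : IsInner aX P₁ del)
    {T : Over S} (x : T ⟶ X) (c : T ⟶ G₁) : Mem p₁ c ↔ Mem p (lift (x ≫ f) c ≫ gam) := by
  constructor
  · rintro ⟨c', rfl⟩
    exact ⟨lift x c' ≫ del, (h T x c').symm⟩
  · rintro ⟨g, hg⟩
    refine ⟨hJ.pre x g, (hI.bij T (x ≫ f)).1 ?_⟩
    change lift (x ≫ f) (hJ.pre x g ≫ p₁) ≫ gam = lift (x ≫ f) c ≫ gam
    rw [h, hJ.pre_spec, hg]

theorem Comp.isMonHom (h : Comp p f gam del p₁) (hI : IsInner aY G₁ gam) (hJ : IsInner aX P₁ del)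
    (hXl : NonAbH1.IsLocallyTrivialFor Scheme.fppfPrecoverage X) [IsMonHom p] : IsMonHom p₁ := by
  apply Groth.Agent.Sga3B.Pts.isMonHom_of_points
  intro T c c'
  refine K826.Descend.hom_ext_of_locTriv Scheme.fppfPrecoverage_le_fpqcPrecoverage hXl ?_
  intro T' t x
  refine (hI.bij T' (x ≫ f)).1 ?_
  change lift (x ≫ f) (t ≫ (c * c') ≫ p₁) ≫ gam = lift (x ≫ f) (t ≫ ((c ≫ p₁) * (c' ≫ p₁))) ≫ gam
  rw [← Category.assoc t, h, MonObj.comp_mul, hJ.mul, MonObj.mul_comp, ← h, ← h, MonObj.comp_mul,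
    hI.mul, Category.assoc, Category.assoc]

omit [GrpObj G] [GrpObj G₁] in
theorem Comp.mono (h : Comp p f gam del p₁) (hJ : IsInner aX P₁ del)
    (hXl : NonAbH1.IsLocallyTrivialFor Scheme.fppfPrecoverage X) [Mono p] : Mono p₁ := by
  refine ⟨fun {T} c c' e => ?_⟩
  refine K826.Descend.hom_ext_of_locTriv Scheme.fppfPrecoverage_le_fpqcPrecoverage hXl ?_
  intro T' t x
  refine (hJ.bij T' x).1 ?_
  change lift x (t ≫ c) ≫ del = lift x (t ≫ c') ≫ del
  rw [← cancel_mono p, ← h, ← h, Category.assoc, Category.assoc, e]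

/-- base change to a scheme over which the torsor has a point -/
theorem Comp.square (h : Comp p f gam del p₁) {V : Scheme.{u}} {v : V ⟶ S} (x₀ : Over.mk v ⟶ X) :
    (Over.pullback v).map p₁ ≫ innHom gam (x₀ ≫ f) = innHom del x₀ ≫ (Over.pullback v).map p := by
  apply (bcEquiv v _ G).symm.injective
  rw [symm_comp_innHom]
  have h1 : (bcEquiv v (Red.bc v P₁) G₁).symm ((Over.pullback v).map p₁) =
      (bcEquiv v (Red.bc v P₁) P₁).symm (𝟙 _) ≫ p₁ := by
    have := bcEquiv_symm_comp v (𝟙 (Red.bc v P₁)) p₁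
    rw [Category.id_comp] at this
    exact this
  have h2 : (bcEquiv v (Red.bc v P₁) G).symm (innHom del x₀ ≫ (Over.pullback v).map p) =
      (bcEquiv v (Red.bc v P₁) P).symm (innHom del x₀) ≫ p := bcEquiv_symm_comp v _ p
  have h3 : (bcEquiv v (Red.bc v P₁) P).symm (innHom del x₀) =
      lift (stm v (Red.bc v P₁) ≫ x₀) ((bcEquiv v (Red.bc v P₁) P₁).symm (𝟙 _)) ≫ del := by
    have h4 : (bcEquiv v (Red.bc v P₁) P).symm (𝟙 (Red.bc v P₁) ≫ innHom del x₀) =
        lift (stm v (Red.bc v P₁) ≫ x₀) ((bcEquiv v (Red.bc v P₁) P₁).symm (𝟙 _)) ≫ del :=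
      symm_comp_innHom x₀ (𝟙 (Red.bc v P₁))
    rw [Category.id_comp] at h4
    exact h4
  refine Eq.trans ?_ h2.symm
  rw [h3, ← h, Category.assoc (stm v (Red.bc v P₁))]
  change lift (stm v (Red.bc v P₁) ≫ x₀ ≫ f) _ ≫ gam = _
  rw [h1]

/-- **`p₁` is parabolic.** -/
theorem Comp.isParabolic (h : Comp p f gam del p₁) (hX : RedSub.IsTorsor aX)
    (hXl : NonAbH1.IsLocallyTrivialFor Scheme.fppfPrecoverage X)
    (hI : IsInner aY G₁ gam) (hJ : IsInner aX P₁ del) (hG : Red.IsReductive G)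
    (hp : Red.IsParabolic p) : Red.IsParabolic p₁ := by
  have hpm : IsMonHom p := hp.1
  have hpc : IsClosedImmersion p.left := hp.2.1
  have hpM : Mono p := Over.mono_of_mono_left p
  have h1 : IsMonHom p₁ := h.isMonHom hI hJ hXl
  have h2 : Mono p₁ := h.mono hJ hXl
  refine K546.Pair.isParabolic_of_local h1 fun s => ?_
  obtain ⟨V, v, s', x₀, hv, hs'⟩ := exists_etale_point hX hp.2.2.1 s
  refine ⟨V, v, hv, ⟨s', hs'⟩, ?_⟩
  obtain ⟨e, he⟩ := hI.exists_iso v (x₀ ≫ f)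
  obtain ⟨e', he'⟩ := hJ.exists_iso v x₀
  have hq := Groth.Agent.Sga3B.Parab.OppRow172.isParabolic_comp_iso
    (Groth.Agent.RedSub.H648.BorBc.isParabolic_bc v hG hp) e.symm
  have hsq := h.square x₀
  have hsq' : (Over.pullback v).map p₁ ≫ e.hom.hom.hom =
      e'.hom.hom.hom ≫ (Over.pullback v).map p := by
    rw [he, he']
    exact hsq
  have hee : e.hom.hom.hom ≫ e.inv.hom.hom = 𝟙 _ := by
    have := congrArg (fun z => z.hom.hom) e.hom_inv_id
    exact this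
  have hee' : e'.inv.hom.hom ≫ e'.hom.hom.hom = 𝟙 _ := by
    have := congrArg (fun z => z.hom.hom) e'.inv_hom_id
    exact this
  have hee'' : e'.hom.hom.hom ≫ e'.inv.hom.hom = 𝟙 _ := by
    have := congrArg (fun z => z.hom.hom) e'.hom_inv_id
    exact this
  have hmap : (Over.pullback v).map p₁ =
      e'.hom.hom.hom ≫ (Over.pullback v).map p ≫ e.inv.hom.hom := by
    rw [← Category.assoc, ← hsq', Category.assoc, hee, Category.comp_id]
  have hmono : Mono ((Over.pullback v).map p₁) := inferInstance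
  refine K546.Pair.isParabolic_of_mem_iff hq inferInstance hmono fun T y => ?_
  constructor
  · rintro ⟨z, rfl⟩
    refine ⟨z ≫ e'.inv.hom.hom, ?_⟩
    rw [hmap, Category.assoc, ← Category.assoc (e'.inv.hom.hom), hee', Category.id_comp]
    rfl
  · rintro ⟨z, rfl⟩
    refine ⟨z ≫ e'.hom.hom.hom, ?_⟩
    rw [hmap, Category.assoc]
    rfl

end Inner

/-- geometric points of a smooth torsor -/
theorem exists_geomPt (hX : RedSub.IsTorsor aX) (hP : Smooth P.hom) (s : S) :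
    Nonempty (Over.mk (Red.geomPt s) ⟶ X) := by
  obtain ⟨V, v, s', x₀, hv, rfl⟩ := exists_etale_point hX hP s
  obtain ⟨θ, hθ, e⟩ := Groth.Agent.Sga3B.ResAlg.exists_iso_geomPt v s'
  exact ⟨(Over.homMk (inv θ ≫ Red.geomPt s') (by
    change (inv θ ≫ Red.geomPt s') ≫ v = Red.geomPt (v s')
    rw [Category.assoc, IsIso.inv_comp_eq, e]) : Over.mk (Red.geomPt (v s')) ⟶ Over.mk v) ≫ x₀⟩

end Groth.Agent.RedSub.K200.TorsPar
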