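import Groth.Agent.RedSub.K200.TorsGm
import Groth.Agent.RedSub.K200.TorsLoc
import Groth.Agent.RedSub.H651.BorLevi

/-!
# Triviality of torsors under split tori, and under Borel subgroups with a split torus, over a ring with
trivial Picard group
-/

set_option autoImplicit false
universe u

open CategoryTheory CategoryTheory.Limits MonoidalCategory CartesianMonoidalCategory MonObj GrpObj AlgebraicGeometry
  Opposite
open Groth.Agent.Books.BorelOrb Groth.Agent.RedSub.K200.TorsPar Groth.Agent.RedSub.K200.TorsLevi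
open Groth.Agent.Sga3B Groth.Agent.Sga3B.Par.LeviProj Groth.Agent.Sga3B.DSPts

namespace Groth.Agent.RedSub.K200.TorsSplit

section gen

variable {S : Scheme.{u}} {L L' P U : Over S} [GrpObj L] [GrpObj L'] [GrpObj P] [GrpObj U]

/-- all fppf torsors under `L` have a section -/
def Triv (L : Over S) [GrpObj L] : Prop :=
  ∀ X : NonAbH1.TorsorSch L Scheme.fppfPrecoverage.{u}, Nonempty (𝟙_ (Over S) ⟶ X.X)

lemma isTorsor_fpqc {X : Over S} {a : AlgGrp.Action L X}
    (h : NonAbH1.IsTorsorFor Scheme.fppfPrecoverage.{u} a) :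
    NonAbH1.IsTorsorFor Scheme.fpqcPrecoverage.{u} a := by
  obtain ⟨h1, R, hR, h⟩ := h
  exact ⟨h1, R, Scheme.fppfPrecoverage_le_fpqcPrecoverage _ hR, h⟩

/-- extensions with a section -/
theorem triv_ext {π : P ⟶ L} {u : U ⟶ P} {l : L ⟶ P} (D : KerData π u l) [IsAffineHom L.hom]
    (hL : Triv L) (hU : Triv U) : Triv P := by
  intro X
  have := D.monHom_π
  obtain ⟨Y, q, hq⟩ := exists_push π X
  obtain ⟨y⟩ := hL Y
  obtain ⟨Z, aZ, z, hZ⟩ := exists_fibre D X.isTorsor Y.isTorsor.1 hq y
  obtain ⟨w⟩ := hU ⟨Z, aZ, hZ⟩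
  exact ⟨w ≫ z⟩

/-- invariance under isomorphisms -/
theorem triv_of_iso (e : L ≅ L') [IsMonHom e.hom] (hL : Triv L) : Triv L' := by
  intro X
  have hsm : ∀ {Y : Over S} (g : Y ⟶ L) (x : Y ⟶ X.X),
      sm (X.act.restrict e.hom) g x = sm X.act (g ≫ e.hom) x := by
    intro Y g x
    simp only [sm, AlgGrp.Action.restrict_act]
    rw [← Category.assoc]
    congr 1
    apply CartesianMonoidalCategory.hom_ext <;> simp
  refine hL ⟨X.X, X.act.restrict e.hom, K551.Tors.isPseudoTorsorSch_of_points _ ?_, X.isTorsor.2⟩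
  intro Y x x'
  have h1 := K551.Tors.sm_dif X.isTorsor.1 x x'
  refine ⟨K551.Tors.dif X.isTorsor.1 x x' ≫ e.inv, ?_, fun g hg => ?_⟩
  · beta_reduce
    rw [hsm, Category.assoc, e.inv_hom_id, Category.comp_id, h1]
  · have hg : sm (X.act.restrict e.hom) g x' = x := hg
    rw [hsm] at hg
    have h2 := K551.Tors.sm_injective X.isTorsor.1 x' (hg.trans h1.symm)
    rw [← h2, Category.assoc, e.hom_inv_id, Category.comp_id]

end gen

section aff

variable {A : Type u} [CommRing A]

/-- the trivial group -/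
theorem triv_of_subsingleton {L : Over (Spec (CommRingCat.of A))} [GrpObj L] [IsAffineHom L.hom] [Flat L.hom]
    (h : ∀ T : Over (Spec (CommRingCat.of A)), Subsingleton (T ⟶ L)) : Triv L := by
  intro X
  have hX := isTorsor_fpqc X.isTorsor
  have := K151.TorsFpqc.isAffineHom_of_torsor hX
  have := K151.TorsFpqc.flat_of_torsor hX
  have := K151.TorsFpqc.surjective_of_isLocallyTrivialFor hX.2
  obtain ⟨B, _, _, _, ⟨x⟩⟩ := K151.GmGa.exists_sp X.X (𝟙 (Spec (CommRingCat.of A)))
  have i1 := K151.GmGa.surjective_spec (R := A) (B := B)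
  have i2 := K151.GmGa.flat_spec (R := A) (B := B)
  have i3 : QuasiCompact (Spec.map (CommRingCat.ofHom (algebraMap A B))) := inferInstance
  apply K551.Tors.exists_point_of_hasSectionOver_id
  exact K151.GmGa.hasSection_of_coboundary X.isTorsor.1 (𝟙 _) (K151.GmGa.sp (𝟙 _) B)
    (Spec.map (CommRingCat.ofHom (algebraMap A B))) rfl x 1 (K151.GmGa.sp (𝟙 _) (TensorProduct A B B))
    (K151.GmGa.spMap (𝟙 _) Algebra.TensorProduct.includeLeft)
    (K151.GmGa.spMap (𝟙 _) Algebra.TensorProduct.includeRight)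
    (K151.GmGa.isPullback_sp (𝟙 _) (𝟙 _) _ (Category.comp_id _)) ((h _).elim _ _)

theorem triv_gm [Subsingleton (CommRing.Pic A)] : Triv (Red.Gm (Spec (CommRingCat.of A))) := by
  intro X
  exact K551.Tors.exists_point_of_hasSectionOver_id
    (TorsGm.hasSection_gm (𝟙 _) X.act (isTorsor_fpqc X.isTorsor))

lemma isAffineHom_ds (S : Scheme.{u}) (M : Type) [AddCommGroup M] : IsAffineHom (Red.DS S M).hom := by
  have h1 : IsAffineHom (Red.diag (ULift.{u} ℤ) M).hom :=
    inferInstanceAs (IsAffineHom (Spec.map (CommRingCat.ofHom (algebraMap (ULift.{u} ℤ)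
      (MonoidAlgebra (ULift.{u} ℤ) (Multiplicative M))))))
  exact MorphismProperty.pullback_snd (P := @IsAffineHom) _ _ h1

lemma flat_ds (S : Scheme.{u}) (M : Type) [AddCommGroup M] : Flat (Red.DS S M).hom := by
  have h1 : Flat (Red.diag (ULift.{u} ℤ) M).hom := by
    change Flat (Spec.map (CommRingCat.ofHom (algebraMap (ULift.{u} ℤ)
      (MonoidAlgebra (ULift.{u} ℤ) (Multiplicative M)))))
    rw [HasRingHomProperty.Spec_iff (P := @Flat)]
    change (algebraMap (ULift.{u} ℤ) (MonoidAlgebra (ULift.{u} ℤ) (Multiplicative M))).Flat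
    rw [RingHom.flat_algebraMap_iff]
    infer_instance
  exact MorphismProperty.pullback_snd (P := @Flat) _ _ h1

section fin

variable (S : Scheme.{u}) (n : ℕ)

/-- the inclusion of the first coordinate -/
abbrev hd : ℤ →+ (Fin (n + 1) → ℤ) := AddMonoidHom.single (fun _ => ℤ) 0

/-- the first coordinate -/
abbrev fs : (Fin (n + 1) → ℤ) →+ ℤ := Pi.evalAddMonoidHom _ 0

/-- the other coordinates -/
def tl : (Fin (n + 1) → ℤ) →+ (Fin n → ℤ) where
  toFun f := fun i => f i.succ
  map_zero' := rfl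
  map_add' _ _ := rfl

/-- the inclusion of the other coordinates -/
def cn : (Fin n → ℤ) →+ (Fin (n + 1) → ℤ) where
  toFun f := Fin.cons 0 f
  map_zero' := by
    funext i
    refine Fin.cases ?_ (fun i => ?_) i <;> simp
  map_add' f g := by
    funext i
    refine Fin.cases ?_ (fun i => ?_) i <;> simp

lemma fs_hd (m : ℤ) : fs n (hd n m) = m := by simp [fs, hd]

lemma tl_hd (m : ℤ) : tl n (hd n m) = 0 := by
  funext i
  change (Pi.single 0 m : Fin (n + 1) → ℤ) i.succ = 0
  exact Pi.single_eq_of_ne (Fin.succ_ne_zero i) _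

lemma tl_cn (m : Fin n → ℤ) : tl n (cn n m) = m := rfl

lemma hd_add_cn (m : Fin (n + 1) → ℤ) : hd n (fs n m) + cn n (tl n m) = m := by
  funext i
  refine Fin.cases ?_ (fun i => ?_) i
  · simp [hd, cn]
  · have h : (Pi.single 0 (m 0) : Fin (n + 1) → ℤ) i.succ = 0 :=
      Pi.single_eq_of_ne (Fin.succ_ne_zero i) _
    simp [hd, cn, tl, h]

theorem kerData_fin : KerData (Red.DSmap S (hd n)) (Red.DSmap S (tl n)) (Red.DSmap S (fs n)) where
  monHom_π := Parab.isMonHom_DSmap _
  monHom_u := Parab.isMonHom_DSmap _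
  mono_u := by
    constructor
    intro T x y h
    apply (dsEquiv T (Fin n → ℤ)).symm.injective
    have h1 := congrArg dsChar h
    rw [dsChar_DSmap, dsChar_DSmap] at h1
    refine MonoidHom.ext fun m => ?_
    have h2 := DFunLike.congr_fun h1 (Multiplicative.ofAdd (cn n m.toAdd))
    exact h2
  u_π T b := by
    apply (dsEquiv T ℤ).symm.injective
    rw [map_one]
    change dsChar ((b ≫ Red.DSmap S (tl n)) ≫ Red.DSmap S (hd n)) = 1
    rw [dsChar_DSmap, dsChar_DSmap]
    refine MonoidHom.ext fun m => ?_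
    change dsChar b (Multiplicative.ofAdd (tl n (hd n m.toAdd))) = 1
    rw [tl_hd]
    exact map_one _
  ker T g hg := by
    have h1 := congrArg dsChar hg
    rw [dsChar_DSmap] at h1
    have h0 : dsChar (1 : T ⟶ Red.DS S ℤ) = 1 := map_one (dsEquiv T ℤ).symm
    rw [h0] at h1
    refine ⟨dsEquiv T _ ((dsChar g).comp (AddMonoidHom.toMultiplicative (cn n))), ?_⟩
    apply (dsEquiv T (Fin (n + 1) → ℤ)).symm.injective
    change dsChar _ = dsChar _
    rw [dsChar_DSmap, dsChar_dsEquiv]
    refine MonoidHom.ext fun m => ?_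
    change dsChar g (Multiplicative.ofAdd (cn n (tl n m.toAdd))) = dsChar g m
    have h2 : m = Multiplicative.ofAdd (hd n (fs n m.toAdd)) * Multiplicative.ofAdd (cn n (tl n m.toAdd)) := by
      rw [← ofAdd_add, hd_add_cn]
      rfl
    have h3 : dsChar g (Multiplicative.ofAdd (hd n (fs n m.toAdd))) = 1 :=
      DFunLike.congr_fun h1 (Multiplicative.ofAdd (fs n m.toAdd))
    conv_rhs => rw [h2, _root_.map_mul, h3, _root_.one_mul]
  l_π := by
    apply (dsEquiv _ ℤ).symm.injective
    change dsChar _ = dsChar _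
    have h1 : Red.DSmap S (fs n) ≫ Red.DSmap S (hd n) =
        (𝟙 _ ≫ Red.DSmap S (fs n)) ≫ Red.DSmap S (hd n) := by rw [Category.id_comp]
    rw [h1, dsChar_DSmap, dsChar_DSmap]
    refine MonoidHom.ext fun m => ?_
    change dsChar (𝟙 (Red.DS S ℤ)) (Multiplicative.ofAdd (fs n (hd n m.toAdd))) = _
    rw [fs_hd]
    rfl

end fin

theorem triv_fin [Subsingleton (CommRing.Pic A)] :
    ∀ n : ℕ, Triv (Red.DS (Spec (CommRingCat.of A)) (Fin n → ℤ))
  | 0 => by
    have := isAffineHom_ds (Spec (CommRingCat.of A)) (Fin 0 → ℤ)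
    have := flat_ds (Spec (CommRingCat.of A)) (Fin 0 → ℤ)
    refine triv_of_subsingleton fun T => ⟨fun x y => ?_⟩
    apply (dsEquiv T (Fin 0 → ℤ)).symm.injective
    refine MonoidHom.ext fun m => ?_
    have h1 : m = 1 := Subsingleton.elim (α := (Fin 0 → ℤ)) _ _
    rw [h1, map_one, map_one]
  | n + 1 => by
    have := isAffineHom_ds (Spec (CommRingCat.of A)) ℤ
    exact triv_ext (kerData_fin (Spec (CommRingCat.of A)) n) triv_gm (triv_fin n)

/-- **Torsors under split tori over a ring with trivial Picard group are trivial.** -/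
theorem triv_ds [Subsingleton (CommRing.Pic A)] (M : Type) [AddCommGroup M] [Module.Finite ℤ M]
    [Module.Free ℤ M] : Triv (Red.DS (Spec (CommRingCat.of A)) M) := by
  let b := Module.finBasis ℤ M
  let e : M ≃+ (Fin (Module.finrank ℤ M) → ℤ) := b.equivFun.toAddEquiv
  have hcomp : ∀ {M N : Type} [AddCommGroup M] [AddCommGroup N] (f : M ≃+ N),
      Red.DSmap (Spec (CommRingCat.of A)) f.toAddMonoidHom ≫
        Red.DSmap (Spec (CommRingCat.of A)) f.symm.toAddMonoidHom = 𝟙 _ := by
    intro M N _ _ f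
    apply (dsEquiv _ N).symm.injective
    change dsChar _ = dsChar _
    have h1 : Red.DSmap (Spec (CommRingCat.of A)) f.toAddMonoidHom ≫
        Red.DSmap (Spec (CommRingCat.of A)) f.symm.toAddMonoidHom =
        (𝟙 _ ≫ Red.DSmap (Spec (CommRingCat.of A)) f.toAddMonoidHom) ≫
          Red.DSmap (Spec (CommRingCat.of A)) f.symm.toAddMonoidHom := by rw [Category.id_comp]
    rw [h1, dsChar_DSmap, dsChar_DSmap]
    refine MonoidHom.ext fun m => ?_
    change dsChar (𝟙 (Red.DS (Spec (CommRingCat.of A)) N)) (Multiplicative.ofAdd (f (f.symm m.toAdd))) = _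
    rw [f.apply_symm_apply]
    rfl
  let φ : Red.DS (Spec (CommRingCat.of A)) (Fin (Module.finrank ℤ M) → ℤ) ≅
      Red.DS (Spec (CommRingCat.of A)) M :=
    ⟨Red.DSmap _ e.toAddMonoidHom, Red.DSmap _ e.symm.toAddMonoidHom, hcomp e, hcomp e.symm⟩
  have : IsMonHom φ.hom := Parab.isMonHom_DSmap _
  exact triv_of_iso φ (triv_fin _)

variable {G P L : Over (Spec (CommRingCat.of A))} [GrpObj G] [GrpObj P] [GrpObj L]

/-- parabolic subgroups: it is enough to treat a Levi subgroup -/
theorem triv_of_levi (hG : Red.IsReductive G) (i : P ⟶ G) (hP : Red.IsParabolic i) (l : L ⟶ P)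
    (hL : Par.IsLevi l) (hLt : Triv L) : Triv P := by
  have hGa : IsAffineHom G.hom := hG.1
  have hGs : Smooth G.hom := hG.2.1
  obtain ⟨-, -, hLr, U, _, u, hU, -⟩ := id hL
  have hsemi : IsSemi l u := isSemi_of_isLevi hL hU
  have D : KerData (prL hsemi) u l :=
    { monHom_π := inferInstance
      monHom_u := hsemi.monHom_u
      mono_u := hsemi.mono_u
      u_π := fun T b => by rw [u_prL]
      ker := fun T g hg => exists_of_prL_eq_one hsemi g hg
      l_π := l_prL hsemi }
  have hLa : IsAffineHom L.hom := hLr.1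
  refine triv_ext D hLt fun Z => ?_
  obtain ⟨lam, hlam, -, hdyn⟩ := RedSub.H658.RadDyn.exists_cochar hG i hP u hU
  obtain ⟨B, _, _, e, _, δ, hsm, hδ, h0, hF⟩ := RedSub.H658.DynUAff.exists_graded hdyn
  have hUs : Smooth U.hom := Groth.Agent.Sga3B.Parab.DynSmooth998.isDynU_smooth hdyn
  have hZ' : RedSub.IsTorsor Z.act := K551.Tors.redSub_isTorsor Z.isTorsor
  exact RedSub.H658.TorsTriv.hasSection hδ h0 hF e Z.act hZ'

/-- Borel subgroups with a split maximal torus over a ring with trivial Picard group -/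
theorem triv_borel [Subsingleton (CommRing.Pic A)] (hG : Red.IsReductive G) (i : P ⟶ G) (hP : Red.IsBorel i)
    (t : L ⟶ P) (hT : Red.IsMaximalTorus (t ≫ i)) (M : Type) [AddCommGroup M] [Module.Finite ℤ M]
    [Module.Free ℤ M] (hs : Red.IsSplitTorusWith M L) : Triv P := by
  obtain ⟨e⟩ := hs
  let e' : L ≅ Red.DS (Spec (CommRingCat.of A)) M := (Grp.forget _).mapIso e
  have he : IsMonHom e'.symm.hom := e.inv.hom.isMonHom_hom
  exact triv_of_levi hG i (H661.Borels.isParabolic_of_isBorel hP) t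
    (H651.BorLevi.isLevi hG i hP t hT) (triv_of_iso e'.symm (triv_ds M))

end aff

end Groth.Agent.RedSub.K200.TorsSplit
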