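import Groth.Agent.RedSub.K200.TorsSplit
import Groth.Agent.S3959
import Groth.Agent.S3963
import Groth.Agent.S3991
import Groth.Agent.RedSub.H648.TypeR
import Groth.Agent.Sga3B.IsomHa505
import Groth.Agent.RedSub.H643.TypeRTorus

/-!
# The transporter of two Borel subgroups is a torsor; conjugacy of Borel subgroups and of pairs
-/

set_option autoImplicit false
universe u

open CategoryTheory CategoryTheory.Limits MonoidalCategory CartesianMonoidalCategory MonObj GrpObj AlgebraicGeometry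
  Opposite
open Groth.Agent.Books.BorelOrb Groth.Agent.RedSub.K200.TorsPar Groth.Agent.RedSub.K200.TorsLevi
open Groth.Agent.Sga3B Groth.Agent.Sga3B.Parab Groth.Agent.Sga3B.Parab.ConjPt Groth.Agent.Sga3B.DSPts
open Groth.Agent.RedSub.K200.TorsSplit

namespace Groth.Agent.RedSub.K200.TransTors

section gen

variable {S : Scheme.{u}} {G P Q C : Over S} [GrpObj G] [GrpObj P] [GrpObj Q]

/-- **The transporter of `P` onto a self-normalising `Q` is a pseudo-torsor under `Q`.** -/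
theorem exists_action (p : P ⟶ G) (q : Q ⟶ G) [IsMonHom q] [Mono q] (c : C ⟶ G) [Mono c]
    (hc : ∀ (X : Over S) (g : X ⟶ G), (∃ z : X ⟶ C, z ≫ c = g) ↔ Conj p q g)
    (hN : ∀ (X : Over S) (g : X ⟶ G), Conj q q g → Mem q g) :
    ∃ a : AlgGrp.Action Q C, NonAbH1.IsPseudoTorsorSch a := by
  have h0 : Conj p q ((fst Q C ≫ q) * (snd Q C ≫ c)) :=
    (conj_of_mem q (mem_comp q (fst Q C))).mul ((hc _ _).1 ⟨snd Q C, rfl⟩)
  obtain ⟨act, hact⟩ := (hc _ _).2 h0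
  have hpt : ∀ {T : Over S} (x : T ⟶ Q) (z : T ⟶ C), (lift x z ≫ act) ≫ c = (x ≫ q) * (z ≫ c) := by
    intro T x z
    rw [Category.assoc, hact, MonObj.comp_mul, lift_fst_assoc, lift_snd_assoc]
  let a : AlgGrp.Action Q C := K554.FibAct.mkAction act
    (fun T x => by rw [← cancel_mono c, hpt, MonObj.one_comp, _root_.one_mul])
    (fun T g h x => by rw [← cancel_mono c, hpt, hpt, hpt, MonObj.mul_comp, _root_.mul_assoc])
  have hsm : ∀ {T : Over S} (x : T ⟶ Q) (z : T ⟶ C), sm a x z ≫ c = (x ≫ q) * (z ≫ c) := hpt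
  refine ⟨a, K551.Tors.isPseudoTorsorSch_of_points a fun Y x x' => ?_⟩
  have h1 : Conj q q ((x ≫ c) * (x' ≫ c)⁻¹) := ((hc _ _).1 ⟨x, rfl⟩).mul ((hc _ _).1 ⟨x', rfl⟩).inv
  obtain ⟨g, hg⟩ := hN _ _ h1
  refine ⟨g, ?_, fun g' hg' => ?_⟩
  · beta_reduce
    rw [← cancel_mono c, hsm, hg, inv_mul_cancel_right]
  · have h2 : sm a g' x' = x := hg'
    rw [← cancel_mono q, hg, ← h2, hsm, mul_inv_cancel_right]

end gen

section borel

variable {S : Scheme.{u}} {G B B' : Over S} [GrpObj G] [GrpObj B] [GrpObj B']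

/-- **The transporter of two Borel subgroups.** -/
theorem exists_transporter (hG : Red.IsReductive G) (b : B ⟶ G) (b' : B' ⟶ G) (hB : Red.IsBorel b)
    (hB' : Red.IsBorel b') :
    ∃ (C : Over S) (c : C ⟶ G), (∀ (X : Over S) (g : X ⟶ G), (∃ z : X ⟶ C, z ≫ c = g) ↔ Conj b b' g) ∧
      Mono c ∧ Smooth C.hom ∧ Surjective C.hom := by
  have hBs := H648.TypeR.isBorelSub_of_isBorel hG hB
  have hBs' := H648.TypeR.isBorelSub_of_isBorel hG hB'
  obtain ⟨C, c, ⟨hm, hc⟩, hcl, hsm⟩ := S3959.result hG b b' hBs.1 hBs'.1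
  have hc' : ∀ (X : Over S) (g : X ⟶ G), (∃ z : X ⟶ C, z ≫ c = g) ↔ Conj b b' g := fun X g =>
    (hc X g).trans (H645.ConjEqIff.conjEq_iff g)
  refine ⟨C, c, hc', hm, hsm, ⟨fun s => ?_⟩⟩
  obtain ⟨U, f, _, ⟨x, hx⟩, g, hg⟩ := S3963.result hG b b' hBs hBs' s
  rw [H645.ConjEqIff.conjEq_bc_iff, H645.ConjEqIff.conjEq_iff] at hg
  obtain ⟨z, -⟩ := (hc' _ _).2 hg
  have hw : z.left ≫ C.hom = (𝟙 U) ≫ f := Over.w z
  refine ⟨z.left x, ?_⟩
  have h1 := congrArg (fun m : U ⟶ S => m x) hw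
  simp only [Category.id_comp] at h1
  rw [← hx, ← h1]
  rfl

/-- **Conjugacy of Borel subgroups when the torsors under one of them are trivial.** -/
theorem exists_conj (hG : Red.IsReductive G) (b : B ⟶ G) (b' : B' ⟶ G) (hB : Red.IsBorel b)
    (hB' : Red.IsBorel b') (hT : Triv B') : ∃ g : 𝟙_ (Over S) ⟶ G, Conj b b' g := by
  obtain ⟨C, c, hc, hm, hsm, hsurj⟩ := exists_transporter hG b b' hB hB'
  have hbm : IsMonHom b' := hB'.1
  have hbc : IsClosedImmersion b'.left := hB'.2.1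
  have hbM : Mono b' := Over.mono_of_mono_left b'
  have hN : ∀ (T : Over S) (g : T ⟶ G), Conj b' b' g → Mem b' g :=
    fun T g hg => ConjMain.mem_of_conjPt_self
      (PbKN751.isNormalizerOf_of_KN (fun K _ _ => RG.PbQ890.kn K) hG b'
        (H661.Borels.isParabolic_of_isBorel hB')) hg
  obtain ⟨a, ha⟩ := exists_action b b' c hc hN
  obtain ⟨x⟩ := hT ⟨C, a, K551.Tors.isTorsorFor_of_redSub ⟨hsurj, inferInstance, inferInstance, ha⟩⟩
  exact ⟨x ≫ c, (hc _ _).1 ⟨x, rfl⟩⟩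

end borel

section pairs

variable {S : Scheme.{u}} {G B B' T T' : Over S} [GrpObj G] [GrpObj B] [GrpObj B'] [GrpObj T] [GrpObj T']

/-- two monomorphisms with the same points -/
lemma conj_of_conjEq_into {t : T ⟶ B'} {t' : T' ⟶ B'} {b' : B' ⟶ G} [IsMonHom b'] {X : Over S} {u : X ⟶ B'}
    (h : RedSub.ConjEq t t' u) : RedSub.ConjEq (t ≫ b') (t' ≫ b') (u ≫ b') := by
  intro X' x
  refine ⟨fun w => ?_, fun w => ?_⟩
  · obtain ⟨w', hw'⟩ := (h X' x).1 w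
    refine ⟨w', ?_⟩
    rw [← Category.assoc x, ← Category.assoc w, ← Category.assoc w', ← hw', MonObj.mul_comp,
      MonObj.mul_comp, GrpObj.inv_comp]
  · obtain ⟨w', hw'⟩ := (h X' x).2 w
    refine ⟨w', ?_⟩
    rw [← Category.assoc x, ← Category.assoc w, ← Category.assoc w', ← hw', MonObj.mul_comp,
      MonObj.mul_comp, GrpObj.inv_comp]

/-- **Conjugacy of pairs (Borel subgroup, maximal torus).** -/
theorem exists_conj_pair (hG : Red.IsReductive G) (b : B ⟶ G) (b' : B' ⟶ G) (hB : Red.IsBorel b)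
    (hB' : Red.IsBorel b') (t : T ⟶ B) (t' : T' ⟶ B') (ht : Red.IsMaximalTorus (t ≫ b))
    (ht' : Red.IsMaximalTorus (t' ≫ b')) (hT : Triv B') :
    ∃ g : 𝟙_ (Over S) ⟶ G, Conj (t ≫ b) (t' ≫ b') g ∧ Conj b b' g := by
  obtain ⟨g₀, hg₀⟩ := exists_conj hG b b' hB hB' hT
  have hbm : IsMonHom b := hB.1
  have hbm' : IsMonHom b' := hB'.1
  have hbc' : IsClosedImmersion b'.left := hB'.2.1
  have hbM' : Mono b' := Over.mono_of_mono_left b'
  have htm' : IsMonHom t' := by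
    have : IsMonHom (t' ≫ b') := ht'.1
    exact DynLevi998.isMonHom_of_comp_mono (p := b')
  -- the conjugate torus
  obtain ⟨t₂, ht₂⟩ : Mem b' ((toUnit T ≫ g₀) * (t ≫ b) * (toUnit T ≫ g₀)⁻¹) :=
    (hg₀ T (toUnit T) (t ≫ b)).1 ⟨t, rfl⟩
  have h2 : t₂ ≫ b' = (t ≫ b) ≫ (RedIso.und (H643.TypeRTorus.inn g₀)).hom :=
    ht₂.trans (H643.TypeRTorus.comp_inn g₀ (t ≫ b)).symm
  have hmt₂ : Red.IsMaximalTorus (t₂ ≫ b') := by
    rw [h2]
    exact IsomHa505.isMaximalTorus_comp_iso (H643.TypeRTorus.inn g₀) ht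
  have htm₂ : IsMonHom t₂ := by
    have : IsMonHom (t₂ ≫ b') := hmt₂.1
    exact DynLevi998.isMonHom_of_comp_mono (p := b')
  obtain ⟨-, -, -, U, _, uU, hU, -⟩ := id (H651.BorLevi.isLevi hG b' hB' t' ht')
  obtain ⟨u, hu, -⟩ := S3991.result hG b' (H648.TypeR.isBorelSub_of_isBorel hG hB').1
    (fun s => (hB'.2.2.2 s).2.2.2.2.1) uU hU t₂ t' hmt₂ ht'
  have h3 : Conj (t₂ ≫ b') (t' ≫ b') ((u ≫ uU) ≫ b') :=
    (H645.ConjEqIff.conjEq_iff _).1 (conj_of_conjEq_into hu)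
  have h4 : Conj (t ≫ b) (t₂ ≫ b') g₀ := by
    intro X' x y
    have hx : x = toUnit X' := toUnit_unique _ _
    have hw : ∀ w : X' ⟶ T, w ≫ t₂ ≫ b' = (x ≫ g₀) * (w ≫ t ≫ b) * (x ≫ g₀)⁻¹ := by
      intro w
      rw [ht₂, MonObj.comp_mul, MonObj.comp_mul, GrpObj.comp_inv, ← Category.assoc w, hx,
        toUnit_unique (w ≫ toUnit T) (toUnit X')]
    constructor
    · rintro ⟨w, rfl⟩
      exact ⟨w, hw w⟩
    · rintro ⟨w, hw'⟩
      refine ⟨w, ?_⟩
      rw [hw] at hw'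
      exact mul_left_cancel (mul_right_cancel hw')
  exact ⟨((u ≫ uU) ≫ b') * g₀, h3.mul h4, (conj_of_mem b' ⟨u ≫ uU, rfl⟩).mul hg₀⟩

end pairs

end Groth.Agent.RedSub.K200.TransTors
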